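import Groth.Agent.PBundleLib.Gen
import Groth.Agent.KVbLib.Rank

/-!
# The Grothendieck group of a projective bundle
-/

set_option autoImplicit false
set_option linter.style.haveILetI false
set_option linter.unusedSectionVars false
set_option maxHeartbeats 1000000
set_option backward.isDefEq.respectTransparency false

universe u

open CategoryTheory CategoryTheory.Limits AlgebraicGeometry TopologicalSpace Opposite
open Groth.Agent.DCohLib Groth.Agent.DCohMore Groth.Agent.DCohMore.TwistOver Groth.Agent.RegLib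

attribute [local instance] HasDerivedCategory.standard

noncomputable section

namespace Groth.Agent.PBundleLib

theorem isInvertible_of_rank {X : Scheme.{u}} {L : X.Modules} (h : FlatMod.IsFinLocFreeOfRank 1 L) :
    PicF.IsInvertible L := fun x => by
  obtain ⟨U, hx, ⟨e⟩⟩ := h x
  exact ⟨U, hx, ⟨e ≪≫ coproductUniqueIso fun _ : Fin 1 => Coh.structureModule (↑U : Scheme.{u})⟩⟩

theorem rank_of_isInvertible {X : Scheme.{u}} {L : X.Modules} (h : PicF.IsInvertible L) :
    FlatMod.IsFinLocFreeOfRank 1 L := fun x => by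
  obtain ⟨U, hx, ⟨e⟩⟩ := h x
  exact ⟨U, hx, ⟨e ≪≫ (coproductUniqueIso fun _ : Fin 1 => Coh.structureModule (↑U : Scheme.{u})).symm⟩⟩

/-- An inverse of an invertible module is invertible. -/
theorem isFinLocFree_of_inverse {X : Scheme.{u}} {L M : X.Modules} (hL : FlatMod.IsFinLocFreeOfRank 1 L)
    (e : CohB1.tensorMod L M ≅ Coh.structureModule X) : FlatMod.IsFinLocFree M := by
  obtain ⟨N, hN, ⟨f⟩⟩ := AmpleEmb.exists_isInverseOf (isInvertible_of_rank hL)
  refine isFinLocFree_iso ?_ (KVb.isFinLocFree_of_rank (rank_of_isInvertible hN))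
  exact (ModTensor.tensorUnitRight X.sheaf).symm.app N ≪≫ AmpleLib.tIso (Iso.refl N) e.symm ≪≫
    (AmpleLib.assoc N L M).symm ≪≫ AmpleLib.tIso (AmpleLib.comm N L ≪≫ f) (Iso.refl M) ≪≫ AmpleLib.unitL M

variable {X P : Scheme.{u}} [CompactSpace X] {r : ℕ} {π : P ⟶ X} {E : X.Modules} {O1 : P.Modules}

namespace PB

variable (B : PB r π E O1)

theorem nonempty_loc_low (k : ℕ) (N : X.Modules) (i : Fin B.n) :
    Nonempty ((B.L i).obj (B.low k ((Scheme.Modules.pullback π).obj N)) ≅
      pullT r (B.S i) (-(k : ℤ)) ((Scheme.Modules.pullback (B.chart i).ψ).obj N)) := by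
  let c := B.chart i
  have h : Nonempty (c.loc.obj (CohB1.tensorPow B.Oi k) ≅ O r (B.S i) (-(k : ℤ))) := by
    rcases k with _ | m
    · obtain ⟨z⟩ := nonempty_zero r (B.S i)
      exact ⟨AmpleLib.pullO c.θ ≪≫ z.symm⟩
    · exact c.nonempty_loc_pw B.inv (Int.negSucc m)
  obtain ⟨e⟩ := h
  obtain ⟨s⟩ := c.nonempty_loc_tensor e ((Scheme.Modules.pullback π).obj N)
  exact ⟨s ≪≫ (T r (B.S i) _).mapIso (c.locPull N)⟩

theorem flf_low (k : ℕ) {N : X.Modules} (hN : FlatMod.IsFinLocFree N) :
    FlatMod.IsFinLocFree (B.low k ((Scheme.Modules.pullback π).obj N)) :=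
  isFinLocFree_tensor (B.flf_pow k) (PullbackMod.isFinLocFree_pullback π _ hN)

theorem rg_low {k : ℕ} {N : X.Modules} (hN : FlatMod.IsFinLocFree N) :
    B.Rg k (B.low k ((Scheme.Modules.pullback π).obj N)) := by
  refine ⟨B.flf_low k hN, fun i q hq d hd => ?_⟩
  obtain ⟨e⟩ := B.nonempty_loc_low k N i
  have hq' := (PullbackMod.isQCoh_and_isFP_of_isFinLocFree _
    (PullbackMod.isFinLocFree_pullback (B.chart i).ψ _ hN)).1
  exact van_of_iso e.symm ((van_T (rfl : -(k : ℤ) + d = _) _).2 (van_of_isReg (isReg_pullback _ hq') hq (by omega)))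

theorem g_low {g : SGA6.Kvb P →+ SGA6.Kvb X} (hg : ∀ (m : ℕ) (M : P.Modules), B.Rg m M → g (KRR.cl P M) = B.v m M)
    {k : ℕ} (hk : k ≤ r) {N : X.Modules} (hN : FlatMod.IsFinLocFree N) :
    g (KRR.cl P (B.low k ((Scheme.Modules.pullback π).obj N))) = if k = 0 then KRR.cl X N else 0 := by
  rw [hg k _ (B.rg_low hN), B.v_eq_push k (B.rg_low hN) fun i q hq d hd => by
    obtain ⟨e⟩ := B.nonempty_loc_low k N i
    obtain ⟨j, rfl⟩ := Int.eq_ofNat_of_zero_le hd
    exact van_of_iso e.symm (van_pullT _ (by omega) (PullbackMod.isFinLocFree_pullback (B.chart i).ψ _ hN) j q hq)]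
  rcases Nat.eq_zero_or_pos k with rfl | hk0
  · rw [if_pos rfl]
    obtain ⟨e⟩ := B.nonempty_push_pull hN
    exact KVb.cl_iso ((Scheme.Modules.pushforward π).mapIso (AmpleLib.unitL _) ≪≫ e)
  · rw [if_neg (by omega)]
    refine KVb.cl_of_isZero (isZero_of_loc_base B.covers fun i => ?_)
    obtain ⟨e⟩ := B.nonempty_loc_low k N i
    exact IsZero.of_iso (isZero_push_pullT (-(k : ℤ)) (by omega) (by omega)
      (PullbackMod.isFinLocFree_pullback (B.chart i).ψ _ hN))
      ((B.chart i).β _ ≪≫ (Scheme.Modules.pushforward _).mapIso e)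

theorem nonempty_low_pow : ∀ (j k : ℕ) (Z : P.Modules),
    Nonempty (tmod (B.low (k + j) Z) (CohB1.tensorPow O1 j) ≅ B.low k Z)
  | 0, k, Z => ⟨(ModTensor.tensorUnitRight P.sheaf).app _⟩
  | j + 1, k, Z => by
    obtain ⟨e⟩ := nonempty_low_pow j k Z
    let A := CohB1.tensorPow B.Oi (k + j)
    let Q := CohB1.tensorPow O1 j
    refine ⟨?_ ≪≫ e⟩
    exact AmpleLib.assoc _ Z _ ≪≫ AmpleLib.tIso (Iso.refl _)
        ((AmpleLib.assoc Z Q O1).symm ≪≫ AmpleLib.comm (tmod Z Q) O1) ≪≫
      B.lowSucc (k + j) (tmod Z Q) ≪≫ (AmpleLib.assoc A Z Q).symm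

theorem bijective_sum (G : Fin (r + 1) → (SGA6.Kvb X →+ SGA6.Kvb P))
    (hG : ∀ (i : Fin (r + 1)) (N : X.Modules), FlatMod.IsFinLocFree N →
      G i (KRR.cl X N) = KRR.cl P (B.low i ((Scheme.Modules.pullback π).obj N))) :
    Function.Bijective (fun a : Fin (r + 1) → SGA6.Kvb X => ∑ i, G i (a i)) := by
  classical
  let F : (Fin (r + 1) → SGA6.Kvb X) →+ SGA6.Kvb P :=
    { toFun := fun a => ∑ i, G i (a i)
      map_zero' := by simp
      map_add' := fun a b => by simp [Finset.sum_add_distrib] }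
  refine ⟨(injective_iff_map_eq_zero F).2 fun a ha => ?_, fun x => ?_⟩
  · obtain ⟨g, hg⟩ := B.exists_psi
    let L : Fin (r + 1) → P.Modules := fun j => CohB1.tensorPow O1 (j : ℕ)
    have hL : ∀ j, FlatMod.IsFinLocFree (L j) := fun j => by
      suffices ∀ n, FlatMod.IsFinLocFree (CohB1.tensorPow O1 n) from this j
      intro n
      induction n with
      | zero => exact BCLib.isFinLocFree_structureModule P
      | succ n ih => exact isFinLocFree_tensor ih (KVb.isFinLocFree_of_rank B.line)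
    let Φ : Fin (r + 1) → (SGA6.Kvb P →+ SGA6.Kvb X) := fun j => g.comp (KVb.tenHom (L j))
    have hval : ∀ i j : Fin (r + 1), j ≤ i →
        (Φ j).comp (G i) = if i = j then AddMonoidHom.id _ else 0 := fun i j hji => KVb.hom_ext fun N hN => by
      show g (KVb.tenHom (L j) (G i (KRR.cl X N))) = _
      rw [hG i N hN, KVb.tenHom_cl (B.flf_low i hN) (hL j)]
      obtain ⟨k, hk⟩ : ∃ k, (i : ℕ) = k + (j : ℕ) := ⟨(i : ℕ) - j, by have := Fin.le_def.1 hji; omega⟩
      obtain ⟨e⟩ := B.nonempty_low_pow j k ((Scheme.Modules.pullback π).obj N)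
      have e' : KVb.ten (B.low (i : ℕ) ((Scheme.Modules.pullback π).obj N)) (L j) ≅
          B.low k ((Scheme.Modules.pullback π).obj N) := eqToIso (by rw [hk]) ≪≫ e
      rw [KVb.cl_iso e', B.g_low hg (by omega) hN]
      rcases eq_or_ne i j with rfl | hij
      · rw [if_pos rfl, if_pos (by omega)]
        rfl
      · have : k ≠ 0 := fun h => hij (Fin.ext (by omega))
        rw [if_neg hij, if_neg this]
        rfl
    suffices ∀ (n : ℕ) (j : Fin (r + 1)), (j : ℕ) < n → a j = 0 from funext fun j => this (r + 1) j j.2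
    intro n
    induction n with
    | zero => intro j hj; omega
    | succ n ih =>
      intro j hj
      have h0 : Φ j (∑ i, G i (a i)) = 0 := by
        rw [show ∑ i, G i (a i) = 0 from ha, map_zero]
      rw [map_sum, Finset.sum_eq_single j (fun i _ hij => by
        rcases lt_or_gt_of_ne hij with h | h
        · rw [ih i (by have := Fin.lt_def.1 h; omega), map_zero, map_zero]
        · have h' := DFunLike.congr_fun (hval i j h.le) (a i)
          rw [if_neg hij] at h'
          exact h') (fun h => absurd (Finset.mem_univ j) h)] at h0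
      have h' := DFunLike.congr_fun (hval j j le_rfl) (a j)
      rw [if_pos rfl] at h'
      exact h'.symm.trans h0
  · exact B.mem_of_window (H := F.range) (fun j hj N hN =>
      ⟨Pi.single ⟨j, by omega⟩ (KRR.cl X N), by
        show ∑ i, G i (Pi.single (M := fun _ => SGA6.Kvb X) ⟨j, by omega⟩ (KRR.cl X N) i) = _
        rw [Finset.sum_eq_single ⟨j, by omega⟩ (fun i _ hi => by rw [Pi.single_eq_of_ne hi, map_zero])
          (fun h => absurd (Finset.mem_univ _) h), Pi.single_eq_same, hG _ _ hN]⟩) x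

end PB

omit [CompactSpace X] in
/-- The bundle of the zero module is empty. -/
theorem isZero_of_rank_zero {q : (Scheme.Modules.pullback π).obj E ⟶ O1} (hPB : KRR.IsProjBundle π E O1 q)
    (hE : FlatMod.IsFinLocFreeOfRank 0 E) : IsEmpty P := by
  have hz : IsZero E := KVb.isZero_of_rank_zero (KVb.isFinLocFree_of_rank hE)
    ((KVb.isFinLocFreeOfRank_iff (KVb.isFinLocFree_of_rank hE) 0).1 hE)
  haveI := hPB.epi
  have hO : IsZero O1 := IsZero.of_epi q ((Scheme.Modules.pullback π).map_isZero hz)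
  refine ⟨fun y => ?_⟩
  have hflf := KVb.isFinLocFree_of_rank hPB.invertible
  obtain ⟨e⟩ := ((KVb.isFinLocFreeOfRank_iff hflf 1).1 hPB.invertible y) ▸ KVb.isFinLocFree_freeAt hflf y
  have : e.symm (fun _ => 1) = 0 := by
    obtain ⟨W, hW, s, hs⟩ := TopCat.Presheaf.exists_germ_eq O1.presheaf (e.symm (fun _ => 1))
    haveI : Subsingleton (O1.presheaf.obj (op W)) :=
      AddCommGrpCat.subsingleton_of_isZero (((Scheme.Modules.toPresheaf P).map_isZero hO).obj (op W))
    rw [← hs, Subsingleton.elim s 0, map_zero]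
  exact one_ne_zero (congrFun ((LinearEquiv.map_eq_zero_iff e.symm).1 this) 0)

/-- The Grothendieck group of a projective bundle. -/
theorem bijective_kvb {q : (Scheme.Modules.pullback π).obj E ⟶ O1} {n : ℕ} (hPB : KRR.IsProjBundle π E O1 q)
    (hE : FlatMod.IsFinLocFreeOfRank n E) {Oi : P.Modules}
    (h : CohB1.tensorMod O1 Oi ≅ Coh.structureModule P)
    (G : Fin n → (SGA6.Kvb X →+ SGA6.Kvb P))
    (hG : ∀ (i : Fin n) (N : X.Modules), FlatMod.IsFinLocFree N →
      G i (KRR.cl X N) = KRR.cl P (CohB1.tensorMod (CohB1.tensorPow Oi (i : ℕ)) ((Scheme.Modules.pullback π).obj N))) :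
    Function.Bijective (fun a : Fin n → SGA6.Kvb X => ∑ i, G i (a i)) := by
  rcases n with _ | r
  · haveI := isZero_of_rank_zero hPB hE
    haveI : Subsingleton (SGA6.Kvb P) := by
      refine subsingleton_of_forall_eq 0 fun x => ?_
      exact DFunLike.congr_fun (KVb.hom_ext (f := AddMonoidHom.id _) (g := 0) fun M _ =>
        KVb.cl_of_isZero (isZero_of_local fun y => isEmptyElim y)) x
    exact ⟨fun a b _ => funext fun i => i.elim0, fun x => ⟨0, Subsingleton.elim _ _⟩⟩
  · obtain ⟨B, hB⟩ := exists_pb hPB hE h (isFinLocFree_of_inverse hPB.invertible h)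
    exact B.bijective_sum G fun i N hN => by rw [hG i N hN, ← hB]; rfl

end Groth.Agent.PBundleLib
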