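import Groth.Agent.PBundleLib.Bundle
import Groth.Agent.KVbLib.BundleFilt
import Groth.Agent.KVbLib.ModelIso
import Groth.Agent.S3789

/-!
# The splitting principle for vector bundles
-/

set_option autoImplicit false
set_option linter.style.haveILetI false
set_option linter.unusedSectionVars false
set_option maxHeartbeats 1000000
set_option backward.isDefEq.respectTransparency false

universe u

open CategoryTheory CategoryTheory.Limits AlgebraicGeometry LambdaRing
open Groth.Agent.DCohLib Groth.Agent.PullbackMod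

attribute [local instance] HasDerivedCategory.standard

noncomputable section

namespace Groth.Agent.PBundleLib

/-- The kernel of the tautological quotient. -/
theorem exists_kernel_rank {X P : Scheme.{u}} {π : P ⟶ X} {E : X.Modules} {O1 : P.Modules}
    {q : (Scheme.Modules.pullback π).obj E ⟶ O1} (hPB : KRR.IsProjBundle π E O1 q) {r : ℕ}
    (hE : FlatMod.IsFinLocFreeOfRank (r + 1) E) :
    ∃ F : P.Modules, FlatMod.IsFinLocFreeOfRank r F ∧
      KRR.cl P ((Scheme.Modules.pullback π).obj E) = KRR.cl P F + KRR.cl P O1 := by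
  have hEf := KVb.isFinLocFree_of_rank hE
  have hE' := isFinLocFree_pullback π E hEf
  have hOf := KVb.isFinLocFree_of_rank hPB.invertible
  haveI := hPB.epi
  let S := ShortComplex.mk (kernel.ι q) q (kernel.condition q)
  haveI : Epi S.g := hPB.epi
  haveI : Mono S.f := inferInstanceAs (Mono (kernel.ι q))
  have hS : S.ShortExact := { exact := ShortComplex.exact_of_f_is_kernel _ (kernelIsKernel q) }
  have hF : FlatMod.IsFinLocFree S.X₁ := isFinLocFree_of_shortExact hS hE' hOf
  haveI := (isQCoh_and_isFP_of_isFinLocFree E hEf).1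
  haveI := (isQCoh_and_isFP_of_isFinLocFree _ hE').1
  haveI := (isQCoh_and_isFP_of_isFinLocFree _ hOf).1
  refine ⟨S.X₁, (KVb.isFinLocFreeOfRank_iff hF r).2 fun x => ?_, KVb.cl_add hS hF hE' hOf⟩
  have h := fibreRank_eq_of_freeAt _ (KVb.freeAt_mid hS (KVb.isFinLocFree_freeAt hF x) (KVb.isFinLocFree_freeAt hOf x))
  change fibreRank ((Scheme.Modules.pullback π).obj E) x = _ at h
  change _ = _ + fibreRank O1 x at h
  rw [fibreRank_pullback, (KVb.isFinLocFreeOfRank_iff hEf _).1 hE, (KVb.isFinLocFreeOfRank_iff hOf 1).1 hPB.invertible] at h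
  omega

theorem isFinLocFreeOfRank_pullback {X Y : Scheme.{u}} (f : X ⟶ Y) {n : ℕ} {E : Y.Modules}
    (hE : FlatMod.IsFinLocFreeOfRank n E) : FlatMod.IsFinLocFreeOfRank n ((Scheme.Modules.pullback f).obj E) := by
  have hf := KVb.isFinLocFree_of_rank hE
  haveI := (isQCoh_and_isFP_of_isFinLocFree E hf).1
  refine (KVb.isFinLocFreeOfRank_iff (isFinLocFree_pullback f E hf) n).2 fun x => ?_
  rw [fibreRank_pullback]
  exact (KVb.isFinLocFreeOfRank_iff hf n).1 hE _

/-- Pull-backs compose. -/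
theorem isPull_comp {X Y Z : Scheme.{u}} {f : X ⟶ Y} {h : Y ⟶ Z} {KX : Type*} {KY : Type*} {KZ : Type*}
    [CommRing KX] [CommRing KY] [CommRing KZ] {φX : SGA6.Kvb X →+ KX} {φY : SGA6.Kvb Y →+ KY} {φZ : SGA6.Kvb Z →+ KZ}
    {g : KY →+ KX} {g' : KZ →+ KY} (hg : KRR.IsPull f φY φX g) (hg' : KRR.IsPull h φZ φY g') :
    KRR.IsPull (f ≫ h) φZ φX (g.comp g') := fun E hE => by
  rw [AddMonoidHom.comp_apply, hg' E hE, hg _ (isFinLocFree_pullback h E hE)]
  exact congrArg φX (KVb.cl_iso ((Scheme.Modules.pullbackComp f h).app E))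

/-- The splitting principle, with the standard models. -/
theorem exists_split : ∀ (m : ℕ) (X : Scheme.{u}) [IsNoetherian X] [ConnectedSpace X] (E : X.Modules),
    FlatMod.IsFinLocFreeOfRank m E →
    ∃ (X' : Scheme.{u}) (_ : IsNoetherian X') (_ : ConnectedSpace X') (f : X' ⟶ X)
      (g : KVb.KR X →+ KVb.KR X'), KRR.IsPull f KVb.toKR KVb.toKR g ∧ Function.Injective g ∧
      (∀ k : ℕ, (gammaFiltration (KVb.posStr X') k).comap g = gammaFiltration (KVb.posStr X) k) ∧
      ∃ L : Fin m → X'.Modules, (∀ j, FlatMod.IsFinLocFreeOfRank 1 (L j)) ∧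
        g (KVb.toKR (KRR.cl X E)) = ∑ j, KVb.toKR (KRR.cl X' (L j)) := by
  intro m
  induction m with
  | zero =>
    intro X _ _ E hE
    refine ⟨X, inferInstance, inferInstance, 𝟙 X, AddMonoidHom.id _, fun F _ => ?_, Function.injective_id,
      fun k => rfl, fun j => j.elim0, fun j => j.elim0, ?_⟩
    · exact congrArg KVb.toKR (KVb.cl_iso ((Scheme.Modules.pullbackId X).app F).symm)
    · have hf := KVb.isFinLocFree_of_rank hE
      rw [KVb.cl_of_isZero (KVb.isZero_of_rank_zero hf ((KVb.isFinLocFreeOfRank_iff hf 0).1 hE))]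
      simp
  | succ r ih =>
    intro X _ _ E hE
    obtain ⟨P, hPn, hPc, π, O1, q, hPB⟩ := exists_proj_bundle X hE
    haveI := hPn
    haveI := hPc
    obtain ⟨g₁, hg₁⟩ := KVb.exists_pull (KX := KVb.KR P) π KVb.toKR (KVb.isModel (X := X))
    have hbij := S3789.result X P r E hE π O1 q hPB (KVb.KR X) (KVb.posStr X) KVb.toKR KVb.isModel
      (KVb.KR P) (KVb.posStr P) KVb.toKR KVb.isModel g₁ hg₁
    obtain ⟨hi₁, hf₁⟩ := KVb.injective_comap_bundle hPB hE KVb.isModel KVb.isModel hg₁ hbij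
    obtain ⟨F, hF, hEF⟩ := exists_kernel_rank hPB hE
    obtain ⟨X', hn, hc, f, g₂, hg₂, hi₂, hf₂, L, hL, hsum⟩ := ih P F hF
    refine ⟨X', hn, hc, f ≫ π, g₂.comp g₁, isPull_comp hg₂ hg₁, hi₂.comp hi₁, fun k => ?_,
      Fin.cons ((Scheme.Modules.pullback f).obj O1) L,
      Fin.cases (isFinLocFreeOfRank_pullback f hPB.invertible) hL, ?_⟩
    · rw [← AddSubgroup.comap_comap, hf₂ k, hf₁ k]
    · rw [AddMonoidHom.comp_apply, hg₁ E (KVb.isFinLocFree_of_rank hE), hEF, map_add, map_add, hsum,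
        hg₂ O1 (KVb.isFinLocFree_of_rank hPB.invertible), Fin.sum_univ_succ, add_comm]
      simp only [Fin.cons_zero, Fin.cons_succ]

end Groth.Agent.PBundleLib
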