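import Groth.Agent.PBundleLib.Psi
import Groth.Agent.ProjBundleLib.Adjunct

/-!
# Generators of the Grothendieck group of a projective bundle
-/

set_option autoImplicit false
set_option linter.style.haveILetI false
set_option linter.unusedSectionVars false
set_option maxHeartbeats 1000000
set_option backward.isDefEq.respectTransparency false

universe u

open CategoryTheory CategoryTheory.Limits AlgebraicGeometry TopologicalSpace Opposite
open Groth.Agent.DCohLib Groth.Agent.DCohMore Groth.Agent.DCohMore.TwistOver Groth.Agent.RegLib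

attribute [local instance] HasDerivedCategory.standard

noncomputable section

namespace Groth.Agent.PBundleLib

/-- Functions on the base are functions on projective space over it. -/
theorem bijective_pr_app {r : ℕ} {S : Scheme.{u}} (U : S.Opens) :
    Function.Bijective ((KRR.pr r S).app U) := by
  let p := KRR.pr r S
  let adj := Scheme.Modules.pullbackPushforwardAdjunction p
  haveI := isIso_unit_mod (r := r) (Coh.structureModule S)
    (PullbackMod.isQCoh_and_isFP_of_isFinLocFree _ (BCLib.isFinLocFree_structureModule S)).1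
  have h : adj.unit.app (Coh.structureModule S) ≫ (Scheme.Modules.pushforward p).map (AmpleLib.pullO p).hom =
      SheafOfModules.unitToPushforwardObjUnit p.toRingCatSheafHom :=
    (Adjunction.homEquiv_unit _ _ _ _).symm.trans (Equiv.apply_symm_apply _ _)
  let t : Coh.structureModule S ⟶ (Scheme.Modules.pushforward p).obj (Coh.structureModule (KRR.PY r S)) :=
    SheafOfModules.unitToPushforwardObjUnit p.toRingCatSheafHom
  haveI : IsIso t := by
    show IsIso (SheafOfModules.unitToPushforwardObjUnit p.toRingCatSheafHom :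
      Coh.structureModule S ⟶ (Scheme.Modules.pushforward p).obj (Coh.structureModule (KRR.PY r S)))
    rw [← h]
    infer_instance
  exact ConcreteCategory.bijective_of_isIso (t.app U)

/-- Transposes and equal morphisms. -/
theorem homEquiv_congr' {W Y : Scheme.{u}} {f g : W ⟶ Y} (h : f = g) {E : Y.Modules} {N : W.Modules}
    (a : (Scheme.Modules.pullback f).obj E ⟶ N) :
    (Scheme.Modules.pullbackPushforwardAdjunction g).homEquiv E N ((Scheme.Modules.pullbackCongr h).inv.app E ≫ a) =
      (Scheme.Modules.pullbackPushforwardAdjunction f).homEquiv E N a ≫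
        (Scheme.Modules.pushforwardCongr h).hom.app N := by
  subst h
  have e : (Scheme.Modules.pushforwardCongr (rfl : f = f)).hom.app N = 𝟙 _ := by
    refine Scheme.Modules.hom_ext _ _ fun U => ?_
    simp
  rw [e, Category.comp_id]
  exact congrArg _ (Category.id_comp _)

variable {X P : Scheme.{u}} {r : ℕ} {π : P ⟶ X} {E : X.Modules} {O1 : P.Modules}

namespace Chart

variable (c : Chart r π E O1)

theorem bijective_app {V : X.Opens} (hV : V ≤ c.ψ.opensRange) : Function.Bijective (π.app V) := by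
  have hle : π ⁻¹ᵁ V ≤ c.θ.opensRange := fun y hy => by
    have : y ∈ π ⁻¹' (c.ψ.opensRange : Set X) := hV hy
    rwa [← c.range_θ] at this
  haveI : IsIso (c.ψ.app V) := c.ψ.isIso_app V hV
  haveI : IsIso (c.θ.app (π ⁻¹ᵁ V)) := c.θ.isIso_app _ hle
  haveI : IsIso ((KRR.pr r (Spec c.R)).app (c.ψ ⁻¹ᵁ V)) :=
    (ConcreteCategory.isIso_iff_bijective _).2 (bijective_pr_app _)
  haveI : IsIso ((c.θ ≫ π).app V) := by
    rw [Scheme.Hom.congr_app c.sq.w V, Scheme.Hom.comp_app]
    infer_instance
  haveI : IsIso (π.app V ≫ c.θ.app (π ⁻¹ᵁ V)) := by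
    rw [← Scheme.Hom.comp_app]
    infer_instance
  haveI : IsIso (π.app V) := IsIso.of_isIso_comp_right (π.app V) (c.θ.app (π ⁻¹ᵁ V))
  exact ConcreteCategory.bijective_of_isIso (π.app V)

/-- The counit, read on a chart. -/
def eCounit (M : P.Modules) :
    c.loc.obj ((Scheme.Modules.pullback π).obj ((Scheme.Modules.pushforward π).obj M)) ≅
      (Scheme.Modules.pullback (KRR.pr r (Spec c.R))).obj
        ((Scheme.Modules.pushforward (KRR.pr r (Spec c.R))).obj (c.loc.obj M)) :=
  c.locPull _ ≪≫ (Scheme.Modules.pullback (KRR.pr r (Spec c.R))).mapIso (c.β M)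

theorem eCounit_hom (M : P.Modules) :
    (c.eCounit M).hom ≫ ev (c.loc.obj M) =
      c.loc.map ((Scheme.Modules.pullbackPushforwardAdjunction π).counit.app M) := by
  let p := KRR.pr r (Spec c.R)
  let N := (Scheme.Modules.pushforward π).obj M
  let adj : ∀ {A B : Scheme.{u}} (f : A ⟶ B), _ := fun {A B} f => Scheme.Modules.pullbackPushforwardAdjunction f
  let a : (Scheme.Modules.pullback (c.θ ≫ π)).obj N ⟶ c.loc.obj M :=
    (Scheme.Modules.pullbackComp c.θ π).inv.app N ≫ c.loc.map ((adj π).counit.app M)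
  let b : (Scheme.Modules.pullback (p ≫ c.ψ)).obj N ⟶ c.loc.obj M :=
    (Scheme.Modules.pullbackComp p c.ψ).inv.app N ≫ (Scheme.Modules.pullback p).map (c.β M).hom ≫ ev (c.loc.obj M)
  have hs : ((adj π).homEquiv N M).symm (𝟙 N) = (adj π).counit.app M := by
    rw [Adjunction.homEquiv_counit]
    simp
  have ha := ProjBundleLib.homEquiv_comp c.θ π (𝟙 ((Scheme.Modules.pushforward π).obj M))
  have hb := ProjBundleLib.homEquiv_comp p c.ψ (c.hBC M)
  have hβ : (c.β M).hom = ((adj c.ψ).homEquiv _ _).symm (c.hBC M) := rfl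
  have key : (Scheme.Modules.pullbackCongr c.sq.w).inv.app N ≫ a = b := by
    apply ((adj (p ≫ c.ψ)).homEquiv N (c.loc.obj M)).injective
    rw [homEquiv_congr']
    have ea : (adj (c.θ ≫ π)).homEquiv N (c.loc.obj M) a =
        (Scheme.Modules.pushforward π).map ((adj c.θ).unit.app M) ≫
          (Scheme.Modules.pushforwardComp c.θ π).hom.app _ := by
      refine ((congrArg (fun z => (adj (c.θ ≫ π)).homEquiv N (c.loc.obj M)
        ((Scheme.Modules.pullbackComp c.θ π).inv.app N ≫ c.loc.map z)) hs.symm).trans ha).trans ?_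
      exact Category.id_comp _
    have eb : (adj (p ≫ c.ψ)).homEquiv N (c.loc.obj M) b =
        c.hBC M ≫ (Scheme.Modules.pushforwardComp p c.ψ).hom.app _ := by
      have e1 : b = ((Scheme.Modules.pullbackComp p c.ψ).inv.app N ≫
          (Scheme.Modules.pullback p).map (c.β M).hom) ≫ ev (c.loc.obj M) := (Category.assoc _ _ _).symm
      rw [e1, Adjunction.homEquiv_naturality_right, hβ]
      refine (congrArg (· ≫ _) hb).trans ?_
      simp only [Category.assoc]
      refine congrArg (c.hBC M ≫ ·) ?_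
      refine (congrArg (_ ≫ ·) ((Scheme.Modules.pushforwardComp p c.ψ).hom.naturality (ev (c.loc.obj M))).symm).trans ?_
      rw [← Category.assoc, Functor.comp_map, ← Functor.map_comp]
      refine (congrArg (fun z => (Scheme.Modules.pushforward c.ψ).map z ≫ _)
        ((adj p).right_triangle_components (c.loc.obj M))).trans ?_
      rw [CategoryTheory.Functor.map_id]
      exact Category.id_comp _
    refine (congrArg (· ≫ _) ea).trans (eb.trans ?_).symm
    simp only [hBC, Category.assoc, Iso.inv_hom_id_app]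
    exact congrArg (_ ≫ ·) (congrArg (_ ≫ ·) (Category.comp_id _))
  have e2 : (c.eCounit M).hom ≫ ev (c.loc.obj M) =
      (Scheme.Modules.pullbackComp c.θ π).hom.app N ≫ (Scheme.Modules.pullbackCongr c.sq.w).hom.app N ≫ b := by
    simp [eCounit, locPull, b, N, p]
  rw [e2, ← key, Iso.hom_inv_id_app_assoc]
  exact Iso.hom_inv_id_app_assoc (Scheme.Modules.pullbackComp c.θ π) N _

end Chart

namespace PB

variable [CompactSpace X] (B : PB r π E O1)

theorem bijective_app (B : PB r π E O1) (U : X.Opens) : Function.Bijective (π.app U) := by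
  haveI : IsIso (ClSub.unitToPush π) := ParaFLib.isIso_of_locally_app _ fun x => by
    obtain ⟨i, hi⟩ := B.covers x
    exact ⟨(B.chart i).ψ.opensRange, hi, fun O hO => (B.chart i).bijective_app hO⟩
  exact ConcreteCategory.bijective_of_isIso ((ClSub.unitToPush π).app U)

/-- Direct image of an inverse image. -/
theorem nonempty_push_pull (B : PB r π E O1) {N : X.Modules} (hN : FlatMod.IsFinLocFree N) :
    Nonempty ((Scheme.Modules.pushforward π).obj ((Scheme.Modules.pullback π).obj N) ≅ N) :=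
  haveI := VecFrameLib.isIso_unit π B.bijective_app hN
  ⟨(asIso ((Scheme.Modules.pullbackPushforwardAdjunction π).unit.app N)).symm⟩

/-- The counit. -/
abbrev cu (Z : P.Modules) : (Scheme.Modules.pullback π).obj ((Scheme.Modules.pushforward π).obj Z) ⟶ Z :=
  (Scheme.Modules.pullbackPushforwardAdjunction π).counit.app Z

/-- A member of the zeroth class, on a chart. -/
def regObj {Z : P.Modules} (h : B.Rg 0 Z) (i : Fin B.n) : RegObj r (B.S i) where
  obj := (B.L i).obj Z
  qc := (PullbackMod.isQCoh_and_isFP_of_isFinLocFree _ ((B.chart i).isFinLocFree_loc h.1)).1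
  reg := (isReg_iff _).2 fun q hq => h.2 i q (by omega) _ (by omega)

theorem epi_cu {Z : P.Modules} (h : B.Rg 0 Z) : Epi (cu (π := π) Z) := by
  refine Preadditive.epi_of_isZero_cokernel _ (isZero_of_loc B.covers fun i => ?_)
  haveI : Epi (ev ((B.L i).obj Z)) := RegLib.epi_ev (B.regObj h i).qc (B.regObj h i).reg
  haveI : Epi ((B.chart i).loc.map (cu (π := π) Z)) := by
    rw [← (B.chart i).eCounit_hom Z]
    exact epi_comp _ _
  exact (isZero_cokernel_of_epi ((B.chart i).loc.map (cu (π := π) Z))).of_iso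
    (PreservesCokernel.iso (B.chart i).loc _)

theorem shortExact_cu {Z : P.Modules} (h : B.Rg 0 Z) :
    (ShortComplex.mk (kernel.ι (cu (π := π) Z)) (cu Z) (kernel.condition _)).ShortExact :=
  haveI := B.epi_cu h
  { exact := ShortComplex.exact_kernel _ }

theorem flf_pullPush {Z : P.Modules} (h : B.Rg 0 Z) :
    FlatMod.IsFinLocFree ((Scheme.Modules.pullback π).obj ((Scheme.Modules.pushforward π).obj Z)) :=
  PullbackMod.isFinLocFree_pullback π _ h.push

theorem flf_kernel {Z : P.Modules} (h : B.Rg 0 Z) : FlatMod.IsFinLocFree (kernel (cu (π := π) Z)) :=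
  isFinLocFree_of_shortExact (B.shortExact_cu h) (B.flf_pullPush h) h.1

/-- The twisted syzygy. -/
abbrev nextZ (_B : PB r π E O1) (Z : P.Modules) : P.Modules := tmod O1 (kernel (cu (π := π) Z))

theorem nonempty_loc_kernel {Z : P.Modules} (i : Fin B.n) {W : (KRR.PY r (B.S i)).Modules}
    (e : (B.L i).obj Z ≅ W) : Nonempty ((B.L i).obj (kernel (cu (π := π) Z)) ≅ kernel (ev W)) := by
  let p := KRR.pr r (B.S i)
  exact ⟨PreservesKernel.iso (B.chart i).loc (cu (π := π) Z) ≪≫
    kernel.mapIso _ (ev W) ((B.chart i).eCounit Z ≪≫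
      (Scheme.Modules.pullback p).mapIso ((Scheme.Modules.pushforward p).mapIso e)) e
      (by
        rw [← (B.chart i).eCounit_hom Z, Iso.trans_hom, Category.assoc, Category.assoc]
        exact congrArg (_ ≫ ·) ((Scheme.Modules.pullbackPushforwardAdjunction p).counit.naturality e.hom).symm)⟩

theorem exists_next {Z : P.Modules} (h : B.Rg 0 Z) :
    B.Rg 0 (B.nextZ Z) ∧ ∀ (i : Fin B.n) (Y : RegObj r (B.S i)), ((B.L i).obj Z ≅ Y.obj) →
      Nonempty ((B.L i).obj (B.nextZ Z) ≅ Y.next.obj) := by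
  have hY : ∀ (i : Fin B.n) (Y : RegObj r (B.S i)), ((B.L i).obj Z ≅ Y.obj) →
      Nonempty ((B.L i).obj (B.nextZ Z) ≅ Y.next.obj) := fun i Y e => by
    obtain ⟨t⟩ := (B.chart i).twist
    obtain ⟨s⟩ := (B.chart i).nonempty_loc_tensor t (kernel (cu (π := π) Z))
    obtain ⟨k⟩ := B.nonempty_loc_kernel i e
    exact ⟨s ≪≫ (T r (B.S i) 1).mapIso k⟩
  refine ⟨⟨isFinLocFree_tensor (fun y => (B.line y).imp fun U h => ⟨1, h⟩) (B.flf_kernel h), fun i q hq d hd => ?_⟩, hY⟩
  obtain ⟨e⟩ := hY i (B.regObj h i) (Iso.refl _)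
  exact van_of_iso e.symm (van_of_isReg (B.regObj h i).next.reg hq (by omega))

/-- The iterated syzygies. -/
def it (Z : P.Modules) : ℕ → P.Modules
  | 0 => Z
  | k + 1 => B.nextZ (it Z k)

theorem rg_it {Z : P.Modules} (h : B.Rg 0 Z) : ∀ k, B.Rg 0 (B.it Z k)
  | 0 => h
  | k + 1 => (B.exists_next (rg_it h k)).1

theorem nonempty_loc_it {Z : P.Modules} (h : B.Rg 0 Z) (i : Fin B.n) :
    ∀ k, Nonempty ((B.L i).obj (B.it Z k) ≅ (syz (B.regObj h i) k).obj)
  | 0 => ⟨Iso.refl _⟩
  | k + 1 => by
    obtain ⟨e⟩ := nonempty_loc_it h i k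
    exact (B.exists_next (B.rg_it h k)).2 i _ e

theorem isZero_it {Z : P.Modules} (h : B.Rg 0 Z) : IsZero (B.it Z (r + 1)) :=
  isZero_of_loc B.covers fun i => by
    obtain ⟨e⟩ := B.nonempty_loc_it h i (r + 1)
    exact IsZero.of_iso (isZero_syz _ _ le_rfl) e

/-- A negative twist. -/
abbrev low (k : ℕ) (M : P.Modules) : P.Modules := tmod (CohB1.tensorPow B.Oi k) M

theorem flf_pow : ∀ k : ℕ, FlatMod.IsFinLocFree (CohB1.tensorPow B.Oi k)
  | 0 => BCLib.isFinLocFree_structureModule P
  | k + 1 => isFinLocFree_tensor (flf_pow k) B.invFlf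

def lowSucc (k : ℕ) (K : P.Modules) : B.low (k + 1) (tmod O1 K) ≅ B.low k K :=
  AmpleLib.assoc (CohB1.tensorPow B.Oi k) B.Oi (tmod O1 K) ≪≫
    AmpleLib.tIso (Iso.refl (CohB1.tensorPow B.Oi k)) ((AmpleLib.assoc B.Oi O1 K).symm ≪≫
      AmpleLib.tIso (AmpleLib.comm B.Oi O1 ≪≫ B.inv) (Iso.refl K) ≪≫ AmpleLib.unitL K)

theorem cl_low_it {Z : P.Modules} (h : B.Rg 0 Z) (k : ℕ) :
    KRR.cl P (B.low k (B.it Z k)) =
      KRR.cl P (B.low k ((Scheme.Modules.pullback π).obj ((Scheme.Modules.pushforward π).obj (B.it Z k)))) -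
        KRR.cl P (B.low (k + 1) (B.it Z (k + 1))) := by
  have hk := B.rg_it h k
  have e := KVb.ten_cl_add (B.shortExact_cu hk) (B.flf_kernel hk) (B.flf_pullPush hk) hk.1 (B.flf_pow k)
  have c₁ := KVb.cl_iso (AmpleLib.comm (kernel (cu (π := π) (B.it Z k))) (CohB1.tensorPow B.Oi k) ≪≫
    (B.lowSucc k (kernel (cu (π := π) (B.it Z k)))).symm)
  have c₂ := KVb.cl_iso (AmpleLib.comm ((Scheme.Modules.pullback π).obj ((Scheme.Modules.pushforward π).obj (B.it Z k)))
    (CohB1.tensorPow B.Oi k))
  have c₃ := KVb.cl_iso (AmpleLib.comm (B.it Z k) (CohB1.tensorPow B.Oi k))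
  dsimp only [KVb.ten] at e
  simp only [it]
  exact eq_sub_of_add_eq' ((congrArg₂ (· + ·) c₁.symm c₃.symm).trans (e.symm.trans c₂))

/-- The classes of a window generate. -/
theorem cl_mem {H : AddSubgroup (SGA6.Kvb P)}
    (hH : ∀ j : ℕ, j ≤ r → ∀ N : X.Modules, FlatMod.IsFinLocFree N →
      KRR.cl P (B.low j ((Scheme.Modules.pullback π).obj N)) ∈ H) :
    ∀ (m : ℕ) {M : P.Modules}, B.Rg m M → KRR.cl P M ∈ H
  | 0, M, h => by
    have key : ∀ n k : ℕ, k + n = r + 1 → KRR.cl P (B.low k (B.it M k)) ∈ H := by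
      intro n
      induction n with
      | zero =>
        intro k hk
        obtain rfl : k = r + 1 := by omega
        rw [show KRR.cl P (B.low (r + 1) (B.it M (r + 1))) = 0 from KVb.cl_of_isZero
          (((ModSite.tensorBi P.sheaf).obj _).map_isZero (B.isZero_it h))]
        exact H.zero_mem
      | succ n ih =>
        intro k hk
        rw [B.cl_low_it h k]
        exact H.sub_mem (hH k (by omega) _ (B.rg_it h k).push) (ih (k + 1) (by omega))
    rw [← KVb.cl_iso (AmpleLib.unitL M)]
    exact key (r + 1) 0 (by omega)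
  | m + 1, M, h => by
    obtain ⟨T, hT, ⟨e₁⟩, ⟨e₂⟩, ⟨e₃⟩⟩ := B.exists_tens h.1
    have e := KVb.cl_add hT (isFinLocFree_iso e₁.symm h.1) (isFinLocFree_iso e₂.symm h.mid.1)
      (isFinLocFree_iso e₃.symm h.third.1)
    rw [KVb.cl_iso e₁, KVb.cl_iso e₂, KVb.cl_iso e₃] at e
    rw [eq_sub_of_add_eq e.symm]
    exact H.sub_mem (cl_mem hH m h.mid) (cl_mem hH m h.third)

/-- Homomorphisms agreeing on a window agree. -/
theorem mem_of_window {H : AddSubgroup (SGA6.Kvb P)}
    (hH : ∀ j : ℕ, j ≤ r → ∀ N : X.Modules, FlatMod.IsFinLocFree N →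
      KRR.cl P (B.low j ((Scheme.Modules.pullback π).obj N)) ∈ H) (x : SGA6.Kvb P) : x ∈ H := by
  induction x using QuotientAddGroup.induction_on with
  | _ y =>
    induction y using FreeAbelianGroup.induction_on with
    | zero => simp
    | of Z =>
      rw [RegLib.mk_of Z]
      obtain ⟨m, hm⟩ := B.exists_rg Z.2
      exact B.cl_mem hH m hm
    | neg Z ih => rw [QuotientAddGroup.mk_neg]; exact H.neg_mem ih
    | add a b ha hb => rw [QuotientAddGroup.mk_add]; exact H.add_mem ha hb

end PB

end Groth.Agent.PBundleLib
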