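import Groth.Agent.ProjBundleLib.Factor
import Groth.Agent.ProjBundleLib.Exist
import Groth.Agent.GrassShLib.Props
import Groth.Agent.CurveLib.DegTensor
import Groth.Agent.VBLib.Point

/-!
# The bundle of a module has the universal property, and any two such are isomorphic
-/

set_option autoImplicit false
set_option backward.isDefEq.respectTransparency false
set_option linter.style.haveILetI false

universe u

open CategoryTheory CategoryTheory.Limits AlgebraicGeometry Grass
open Groth.Agent.ProjBundleLib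

noncomputable section

namespace Groth.Agent.PBundleLib

variable {X P : Scheme.{u}} {p : P ⟶ X} {E : X.Modules} {O1 : P.Modules}

/-- The universal quotient of the constructed bundle. -/
abbrev univQ (φ : E ⟶ (Scheme.Modules.pushforward p).obj O1) :
    (Scheme.Modules.pullback p).obj E ⟶ O1 :=
  ((Scheme.Modules.pullbackPushforwardAdjunction p).homEquiv E O1).symm φ

theorem isProjBundle_of_pdata {φ : E ⟶ (Scheme.Modules.pushforward p).obj O1} (D : PData p E O1 φ) :
    KRR.IsProjBundle p E O1 (univQ φ) where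
  invertible := CurveLib.isFinLocFreeOfRank_one D.isInvertible_O1
  epi := D.epi_adjunct
  univ T g L hL s hs := by
    haveI := hs
    obtain ⟨r, ⟨hr, τ, hτ⟩, huniq⟩ := D.existsUnique_factor (VBLib.isInvertible_of_rank hL) s
    refine ⟨r, ⟨hr, τ, ?_⟩, fun r' ⟨hr', τ', hτ'⟩ => huniq r' ⟨hr', τ', ?_⟩⟩
    · rw [← hτ]; simp only [pullAdj, Category.assoc]
    · rw [← hτ']; simp only [pullAdj, Category.assoc]

open GrassShLib in
/-- Two projective bundles of one module are isomorphic over the base, compatibly with `O(1)`. -/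
theorem exists_iso {π : P ⟶ X} {q : (Scheme.Modules.pullback π).obj E ⟶ O1} (h : KRR.IsProjBundle π E O1 q)
    {P' : Scheme.{u}} {π' : P' ⟶ X} {O1' : P'.Modules} {q' : (Scheme.Modules.pullback π').obj E ⟶ O1'}
    (h' : KRR.IsProjBundle π' E O1' q') :
    ∃ i : P ≅ P', i.hom ≫ π' = π ∧ Nonempty ((Scheme.Modules.pullback i.hom).obj O1' ≅ O1) := by
  have hG := IsGrass.of_isProjBundle h
  have hG' := IsGrass.of_isProjBundle h'
  let D : QData E 1 π := ⟨O1, q, hG.rank, hG.epi⟩
  let D' : QData E 1 π' := ⟨O1', q', hG'.rank, hG'.epi⟩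
  have ha := clsMap_comp hG' D
  have hb := clsMap_comp hG D'
  have ea : RQ.bc D'.cls (clsMap hG' D) ha = D.cls := bc_clsMap hG' D
  have eb : RQ.bc D.cls (clsMap hG D') hb = D'.cls := bc_clsMap hG D'
  have hab : clsMap hG' D ≫ clsMap hG D' = 𝟙 P := by
    refine hom_ext_of_cls hG (show _ = π by rw [Category.assoc, hb, ha]) (Category.id_comp π) ?_
    rw [← RQ.bc_bc D.cls (clsMap hG D') hb (clsMap hG' D) ha, eb, ea, RQ.bc_id]
  have hba : clsMap hG D' ≫ clsMap hG' D = 𝟙 P' := by
    refine hom_ext_of_cls hG' (show _ = π' by rw [Category.assoc, ha, hb]) (Category.id_comp π') ?_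
    rw [← RQ.bc_bc D'.cls (clsMap hG' D) ha (clsMap hG D') hb, ea, eb, RQ.bc_id]
  refine ⟨⟨clsMap hG' D, clsMap hG D', hab, hba⟩, ha, ?_⟩
  have hcl := bc_clsMap hG' D
  rw [QData.bc_cls] at hcl
  haveI := hG'.epi
  haveI := hG.epi
  haveI := (D'.bc (clsMap hG' D) ha).epi
  haveI := D.epi
  obtain ⟨ε, -⟩ := exists_iso_of_kerS_eq (D'.bc (clsMap hG' D) ha).s D.s (congrArg Subtype.val hcl)
  exact ⟨ε⟩

end Groth.Agent.PBundleLib
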