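import Groth.Agent.PBundleLib.Loc
import Groth.Agent.DCohMore.DualFlf
import Groth.Agent.DCohLib.FlatPerf
import Groth.Agent.DCohMore.FinPushRes

/-!
# The coresolution `O → Hom(π^*E, O(1))`
-/

set_option autoImplicit false
set_option linter.style.haveILetI false
set_option linter.unusedSectionVars false
set_option maxHeartbeats 1000000
set_option backward.isDefEq.respectTransparency false

universe u

open CategoryTheory CategoryTheory.Limits AlgebraicGeometry TopologicalSpace Opposite
open Groth.Agent.DCohLib Groth.Agent.PullbackMod Groth.Agent.StalkHomLib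
open scoped TensorProduct

attribute [local instance] HasDerivedCategory.standard

noncomputable section

namespace Groth.Agent.PBundleLib

/-- Inverse images of free modules are free. -/
theorem nonempty_pullback_free {W X : Scheme.{u}} (g : W ⟶ X) (n : ℕ) :
    Nonempty ((Scheme.Modules.pullback g).obj (FlatMod.freeMod X n) ≅ FlatMod.freeMod W n) := by
  haveI : PreservesColimitsOfSize.{u, u} (Scheme.Modules.pullback g) :=
    (Scheme.Modules.pullbackPushforwardAdjunction g).leftAdjoint_preservesColimits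
  haveI : PreservesColimitsOfSize.{0, 0} (Scheme.Modules.pullback g) := preservesColimitsOfSize_shrink _
  exact ⟨PreservesCoproduct.iso (Scheme.Modules.pullback g) _ ≪≫
    Limits.Sigma.mapIso (fun _ => AmpleLib.pullO g)⟩

/-- The dual of a module free on an open immersion is free there. -/
theorem nonempty_pullback_dual {W X : Scheme.{u}} (j : W ⟶ X) [IsOpenImmersion j] {F : X.Modules}
    [ModSite.HasSheafHom (O := X.sheaf) F] {n : ℕ}
    (e : (Scheme.Modules.pullback j).obj F ≅ FlatMod.freeMod W n) :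
    Nonempty ((Scheme.Modules.pullback j).obj (LocFreeHomLib.dualE F) ≅ FlatMod.freeMod W n) := by
  let V := j.opensRange
  let t : W ≅ (V : Scheme.{u}) := IsOpenImmersion.isoOfRangeEq j V.ι (by simp [V])
  have ht : t.hom ≫ V.ι = j := IsOpenImmersion.isoOfRangeEq_hom_fac _ _ _
  haveI : ModSite.HasSheafHom (O := (V : Scheme.{u}).sheaf) ((Scheme.Modules.restrictFunctor V.ι).obj F) :=
    Groth.Agent.ModTensor.hasSheafHom (O := (V : Scheme.{u}).sheaf) _
  let R := Scheme.Modules.restrictFunctorIsoPullback V.ι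
  let K : ∀ M : X.Modules, (Scheme.Modules.pullback j).obj M ≅
      (Scheme.Modules.pullback t.hom).obj ((Scheme.Modules.restrictFunctor V.ι).obj M) := fun M =>
    (Scheme.Modules.pullbackCongr ht).symm.app M ≪≫ (Scheme.Modules.pullbackComp t.hom V.ι).symm.app M ≪≫
      (Scheme.Modules.pullback t.hom).mapIso (R.symm.app M)
  obtain ⟨f⟩ := nonempty_pullback_free t.inv n
  obtain ⟨g⟩ := nonempty_pullback_free t.hom n
  let e' : (Scheme.Modules.restrictFunctor V.ι).obj F ≅ FlatMod.freeMod (V : Scheme.{u}) n :=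
    (Scheme.Modules.pullbackId _).symm.app _ ≪≫ (Scheme.Modules.pullbackCongr t.inv_hom_id).symm.app _ ≪≫
      (Scheme.Modules.pullbackComp t.inv t.hom).symm.app _ ≪≫
      (Scheme.Modules.pullback t.inv).mapIso ((K F).symm ≪≫ e) ≪≫ f
  obtain ⟨d⟩ := DCohMore.nonempty_dual_free e'
  exact ⟨K _ ≪≫ (Scheme.Modules.pullback t.hom).mapIso ((ExtShLib.restrictHFIso V F).app _ ≪≫
    (hF _).mapIso (Scheme.Modules.restrictUnitIso V.ι) ≪≫ d) ≪≫ g⟩

variable {P : Scheme.{u}}

/-- A surjection onto an invertible module gives a coresolution of the structure module. -/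
theorem exists_coev {F L : P.Modules} [ModSite.HasSheafHom (O := P.sheaf) F] (hF' : FlatMod.IsFinLocFree F)
    (hL : FlatMod.IsFinLocFreeOfRank 1 L) (q : F ⟶ L) [Epi q] :
    ∃ S : ShortComplex P.Modules, S.ShortExact ∧ S.X₁ = Coh.structureModule P ∧
      S.X₂ = tmod L (LocFreeHomLib.dualE F) ∧ FlatMod.IsFinLocFree S.X₂ ∧ FlatMod.IsFinLocFree S.X₃ := by
  let O := Coh.structureModule P
  let u' : tmod O F ≅ F := AmpleLib.unitL F
  let a₀ : O ⟶ (hF F).obj L := (ModSite.sheafHomAdj (O := P.sheaf) F).homEquiv O L (u'.hom ≫ q)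
  haveI := LocFreeHomLib.isIso_alpha F hF' L
  let δ : O ⟶ tmod L (LocFreeHomLib.dualE F) := a₀ ≫ inv (LocFreeHomLib.alpha F L)
  have hA : FlatMod.IsFinLocFree (tmod L (LocFreeHomLib.dualE F)) :=
    isFinLocFree_tensor (fun y => (hL y).imp fun U h => ⟨1, h⟩) (DCohMore.isFinLocFree_dual F hF')
  have hO : FlatMod.IsFinLocFree O := BCLib.isFinLocFree_structureModule P
  have hret : ∀ x : P, ∃ ρ : (tmod L (LocFreeHomLib.dualE F)).presheaf.stalk x →ₗ[P.presheaf.stalk x]
      O.presheaf.stalk x, ∀ w, ρ (stalkLin δ x w) = w := by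
    intro x
    let R := P.presheaf.stalk x
    obtain ⟨U, g, hxU, hg⟩ := ParaFLib.exists_gen_nhd (VBLib.isInvertible_of_rank hL) x
    let γ := L.presheaf.germ U x hxU g
    let εL : R ≃ₗ[R] L.presheaf.stalk x :=
      LinearEquiv.ofBijective (LinearMap.toSpanSingleton R _ γ) (hg.bijective_germ x hxU)
    let εO : R ≃ₗ[R] O.presheaf.stalk x :=
      LinearEquiv.ofBijective (LinearMap.toSpanSingleton R _ (LocFreeHomLib.one' x)) (ParaFLib.bijective_oneG x)
    obtain ⟨f₁, hf₁⟩ := (PullbackMod.epi_iff_stalk q).1 inferInstance x γ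
    obtain ⟨z₀, hz₀⟩ := (((PullbackMod.isIso_iff_stalk u'.hom).1 inferInstance x).comp (stalkTensor x O F).bijective).2 f₁
    let g' : (O.presheaf.stalk x ⊗[R] F.presheaf.stalk x) →ₗ[R] F.presheaf.stalk x :=
      (TensorProduct.lid R (F.presheaf.stalk x)).toLinearMap ∘ₗ LinearMap.rTensor _ εO.symm.toLinearMap
    have hz : εO 1 ⊗ₜ[R] g' z₀ = z₀ := by
      induction z₀ using TensorProduct.induction_on generalizing f₁ with
      | zero => simp
      | tmul a b =>
        show εO 1 ⊗ₜ[R] (εO.symm a • b) = a ⊗ₜ[R] b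
        rw [TensorProduct.tmul_smul, TensorProduct.smul_tmul', ← map_smul, smul_eq_mul, mul_one, εO.apply_symm_apply]
      | add a b ha hb =>
        rw [map_add, TensorProduct.tmul_add]
        have aux : ∀ z : O.presheaf.stalk x ⊗[R] F.presheaf.stalk x, εO 1 ⊗ₜ[R] g' z = z := fun z => by
          induction z using TensorProduct.induction_on with
          | zero => simp
          | tmul a b =>
            show εO 1 ⊗ₜ[R] (εO.symm a • b) = a ⊗ₜ[R] b
            rw [TensorProduct.tmul_smul, TensorProduct.smul_tmul', ← map_smul, smul_eq_mul, mul_one, εO.apply_symm_apply]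
          | add a b ha hb => rw [map_add, TensorProduct.tmul_add, ha, hb]
        rw [aux, aux]
    let f := g' z₀
    refine ⟨εO.toLinearMap ∘ₗ εL.symm.toLinearMap ∘ₗ ((LinearMap.applyₗ f) ∘ₗ theta F L x) ∘ₗ
      stalkLin (LocFreeHomLib.alpha F L) x, fun w => ?_⟩
    obtain ⟨c, rfl⟩ := εO.surjective w
    have h1 : stalkLin (LocFreeHomLib.alpha F L) x (stalkLin δ x (εO c)) = stalkLin a₀ x (εO c) := by
      rw [← LinearMap.comp_apply, ← stalkLin_comp]
      simp [δ]
    show εO (εL.symm (theta F L x (stalkLin (LocFreeHomLib.alpha F L) x (stalkLin δ x (εO c))) f)) = εO c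
    rw [h1, show εO c = c • εO 1 by rw [← map_smul, smul_eq_mul, mul_one], map_smul, map_smul, LinearMap.smul_apply,
      map_smul, theta_transpose]
    rw [show ((ModSite.sheafHomAdj (O := P.sheaf) F).homEquiv O L).symm a₀ = u'.hom ≫ q from
      Equiv.symm_apply_apply _ _, stalkLin_comp, LinearMap.comp_apply, hz]
    erw [show stalkLin u'.hom x (stalkTensor x O F z₀) = f₁ from hz₀, hf₁,
      show εL.symm γ = 1 from (LinearEquiv.symm_apply_eq εL).2 (show γ = (1 : R) • γ from (one_smul _ γ).symm)]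
    exact map_smul εO c 1
  haveI : Mono δ := (PullbackMod.mono_iff_stalk _).2 fun x a b h => by
    obtain ⟨ρ, hρ⟩ := hret x
    rw [← hρ a, ← hρ b, h]
  let S := ShortComplex.mk δ (cokernel.π δ) (cokernel.condition δ)
  have hS : S.ShortExact :=
    ShortComplex.ShortExact.mk' (ShortComplex.exact_of_g_is_cokernel _ (cokernelIsCokernel _)) inferInstance inferInstance
  refine ⟨S, hS, rfl, rfl, hA, (isFinLocFree_iff _).2 ⟨?_, ?_, fun x => ?_⟩⟩
  · exact (QCohLib.isQCoh_image δ (isQCoh_and_isFP_of_isFinLocFree _ hO).1 (isQCoh_and_isFP_of_isFinLocFree _ hA).1).2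
  · exact DCohLib.isFP_cokernel δ (isQCoh_and_isFP_of_isFinLocFree _ hO).1 (isQCoh_and_isFP_of_isFinLocFree _ hA).1
      (DCohMore.isFT_of_flf hO) (isQCoh_and_isFP_of_isFinLocFree _ hA).2
  · have hx := (shortExact_iff_stkF S).1 hS x
    obtain ⟨ρ, hρ⟩ := hret x
    let j := stalkLin δ x
    let k := stalkLin (cokernel.π δ) x
    have hk : Function.Surjective k := hx.moduleCat_surjective_g
    have hexx : Function.Exact j k := by
      have := hx.exact
      rw [ShortComplex.moduleCat_exact_iff_range_eq_ker] at this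
      exact LinearMap.exact_iff.2 this.symm
    obtain ⟨e, he₁, he₂⟩ := hexx.splitInjectiveEquiv hk ⟨ρ, LinearMap.ext hρ⟩
    let σ := e.symm.toLinearMap ∘ₗ LinearMap.inr (P.presheaf.stalk x) _ _
    have hσ : k ∘ₗ σ = LinearMap.id := LinearMap.ext fun c => by
      show k (e.symm (0, c)) = c
      rw [he₂]
      simp
    haveI : Module.Flat (P.presheaf.stalk x) ((tmod L (LocFreeHomLib.dualE F)).presheaf.stalk x) :=
      isFlat_of_isFinLocFree _ hA x
    exact Module.Flat.of_retract σ k hσ

end Groth.Agent.PBundleLib
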