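import Groth.Agent.PBundleLib.Main
import Groth.Agent.BCLib.DVR
import Groth.Agent.GenSeesawLib.PicProjOver
import Groth.Agent.S4495

/-!
# Projective bundles over connected Noetherian schemes
-/

set_option autoImplicit false
set_option linter.style.haveILetI false
set_option linter.unusedSectionVars false
set_option maxHeartbeats 1000000
set_option backward.isDefEq.respectTransparency false

universe u

open CategoryTheory CategoryTheory.Limits AlgebraicGeometry TopologicalSpace Opposite

attribute [local instance] HasDerivedCategory.standard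

noncomputable section

namespace Groth.Agent.PBundleLib

variable {X P : Scheme.{u}} {r : ℕ} {π : P ⟶ X} {E : X.Modules} {O1 : P.Modules}

theorem PB.isNoetherian [IsNoetherian X] (B : PB r π E O1) : IsNoetherian P := by
  have hcov : ∀ y : P, ∃ i : Fin B.n, ∃ z, (B.chart i).θ z = y := fun y => by
    obtain ⟨i, hi⟩ := B.covers (π y)
    have : y ∈ ((B.chart i).θ.opensRange : Set P) := by
      rw [(B.chart i).range_θ, Scheme.Hom.coe_opensRange]; exact hi
    rw [Scheme.Hom.coe_opensRange] at this
    exact ⟨i, this⟩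
  haveI : IsLocallyNoetherian P := by
    let 𝒰 : P.OpenCover := Scheme.Cover.mkOfCovers (Fin B.n) (fun i => KRR.PY r (B.S i)) (fun i => (B.chart i).θ)
      hcov (fun i => inferInstanceAs (IsOpenImmersion (B.chart i).θ))
    refine (isLocallyNoetherian_iff_openCover 𝒰).2 fun i => ?_
    haveI : IsLocallyNoetherian (B.S i) := isLocallyNoetherian_of_isOpenImmersion (B.chart i).ψ
    haveI : IsProper (KRR.pr r (B.S i)) := BCLib.isProper_toBase r _
    exact LocallyOfFiniteType.isLocallyNoetherian (KRR.pr r (B.S i))
  haveI : CompactSpace P := by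
    refine ⟨?_⟩
    have e : (Set.univ : Set P) = ⋃ i : Fin B.n, Set.range (B.chart i).θ :=
      (Set.eq_univ_of_forall fun y => by
        obtain ⟨i, z, hz⟩ := hcov y
        exact Set.mem_iUnion.2 ⟨i, z, hz⟩).symm
    rw [e]
    refine isCompact_iUnion fun i => ?_
    haveI : IsProper (KRR.pr r (B.S i)) := BCLib.isProper_toBase r _
    haveI : CompactSpace ↥(KRR.PY r (B.S i)) := QuasiCompact.compactSpace_of_compactSpace (KRR.pr r (B.S i))
    exact isCompact_range (B.chart i).θ.continuous
  exact {}

theorem PB.connectedSpace [CompactSpace X] [ConnectedSpace X] (B : PB r π E O1) : ConnectedSpace P := by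
  haveI : PreconnectedSpace P := by
    refine (S4495.result P.toLocallyRingedSpace).2 fun e he => ?_
    let f := π.app ⊤
    obtain ⟨a, ha⟩ := (B.bijective_app ⊤).2 e
    have ha' : IsIdempotentElem a := (B.bijective_app ⊤).1 ((map_mul f.hom a a).trans
      ((congrArg₂ (· * ·) ha ha).trans (he.trans ha.symm)))
    rcases (S4495.result X.toLocallyRingedSpace).1 (‹ConnectedSpace X›).toPreconnectedSpace a ha' with h | h
    · exact Or.inl (ha.symm.trans (by rw [h]; exact map_zero f.hom))
    · exact Or.inr (ha.symm.trans (by rw [h]; exact map_one f.hom))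
  obtain ⟨i, y, -⟩ := B.covers (Classical.arbitrary X)
  obtain ⟨s, -⟩ := GenSeesawLib.exists_section (r := r) (S := B.S i)
  exact { toNonempty := ⟨(B.chart i).θ (s y)⟩ }

/-- Projective bundles exist over connected Noetherian schemes. -/
theorem exists_proj_bundle (X : Scheme.{u}) [IsNoetherian X] [ConnectedSpace X] {r : ℕ} {E : X.Modules}
    (hE : FlatMod.IsFinLocFreeOfRank (r + 1) E) :
    ∃ (P : Scheme.{u}) (_ : IsNoetherian P) (_ : ConnectedSpace P) (π : P ⟶ X) (O1 : P.Modules)
      (q : (Scheme.Modules.pullback π).obj E ⟶ O1), KRR.IsProjBundle π E O1 q := by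
  haveI hq : Coh.IsQCoh E := (PullbackMod.isQCoh_and_isFP_of_isFinLocFree E
    (KVb.isFinLocFree_of_rank hE)).1
  obtain ⟨P, p, O1, φ, ⟨D⟩⟩ := ProjBundleLib.exists_bundle hq
  have hPB := isProjBundle_of_pdata D
  obtain ⟨Oi, -, ⟨h⟩⟩ := AmpleEmb.exists_isInverseOf (isInvertible_of_rank hPB.invertible)
  obtain ⟨B, -⟩ := exists_pb hPB hE h (isFinLocFree_of_inverse hPB.invertible h)
  exact ⟨P, B.isNoetherian, B.connectedSpace, p, O1, univQ φ, hPB⟩

end Groth.Agent.PBundleLib
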