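import Groth.Agent.PBundleLib.Main
import Groth.Agent.S4471
import Groth.Agent.AmpleEmb.RelVanish
import Groth.Agent.ProperFin.PushHH
import Groth.Agent.CurveLib.Components
import Groth.Agent.BCLib.DVR

/-!
# Higher direct images along a projective bundle, on a chart
-/

set_option autoImplicit false
set_option linter.style.haveILetI false
set_option linter.unusedSectionVars false
set_option maxHeartbeats 1000000
set_option backward.isDefEq.respectTransparency false

universe u

open CategoryTheory CategoryTheory.Limits AlgebraicGeometry TopologicalSpace Opposite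
open Groth.Agent.DCohLib Groth.Agent.DCohMore.TwistOver

attribute [local instance] HasDerivedCategory.standard

noncomputable section

namespace Groth.Agent.PBundleLib

/-- Vanishing of cohomology passes along an isomorphism of schemes. -/
theorem subsingleton_HH_of_isIso {Y Z : Scheme.{u}} (ε : Z ⟶ Y) [IsIso ε] {M : Y.Modules}
    (hM : FlatMod.IsFinLocFree M) (p : ℕ)
    (h : Subsingleton (Coh.HH Z ((Scheme.Modules.pullback ε).obj M) p)) : Subsingleton (Coh.HH Y M p) := by
  haveI : Coh.IsQCoh ((Scheme.Modules.pullback ε).obj M) :=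
    (PullbackMod.isQCoh_and_isFP_of_isFinLocFree _ (PullbackMod.isFinLocFree_pullback ε M hM)).1
  haveI := VecFrameLib.isIso_unit ε (fun U => ConcreteCategory.bijective_of_isIso (ε.app U)) hM
  obtain ⟨e, -⟩ := ProperFin.exists_pushEquiv ε (M := (Scheme.Modules.pullback ε).obj M)
    (fun _ hV m => CohBase.affine_vanishing _ (hV.preimage ε) m) p
  haveI := h
  exact CurveLib.subsingleton_HH_iso (asIso ((Scheme.Modules.pullbackPushforwardAdjunction ε).unit.app M)).symm p
    e.symm.toEquiv.subsingleton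

variable {X P : Scheme.{u}} {r : ℕ} {π : P ⟶ X} {E : X.Modules} {O1 : P.Modules}

theorem Chart.subsingleton_HH (c : Chart r π E O1) {M : P.Modules} (hM : FlatMod.IsFinLocFree M) {d : ℤ}
    (e : c.loc.obj M ≅ O r (Spec c.R) d) (i : ℕ) (h : ¬ ((i = 0 ∧ 0 ≤ d) ∨ (i = r ∧ d ≤ -((r : ℤ) + 1))))
    {V : X.Opens} (hV : IsAffineOpen V) (hVc : V ≤ c.ψ.opensRange) :
    Subsingleton (Coh.HH (π ⁻¹ᵁ V).toScheme (M.restrict (π ⁻¹ᵁ V).ι) i) := by
  let S := Spec c.R
  let p := KRR.pr r S
  let W := c.ψ ⁻¹ᵁ V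
  have hW : IsAffineOpen W := hV.preimage_of_isOpenImmersion c.ψ hVc
  let j := (p ⁻¹ᵁ W).ι ≫ c.θ
  let k := (π ⁻¹ᵁ V).ι
  have hw : ∀ z, π (c.θ z) = c.ψ (p z) := fun z => by
    rw [← Scheme.Hom.comp_apply, c.sq.w]; rfl
  have hr : Set.range j.base = Set.range k.base := by
    rw [Scheme.Hom.comp_base, TopCat.coe_comp, Set.range_comp, Scheme.Opens.range_ι, Scheme.Opens.range_ι]
    ext y
    constructor
    · rintro ⟨z, hz, rfl⟩
      show π (c.θ z) ∈ V
      rw [hw]; exact hz
    · intro hy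
      have : y ∈ (c.θ.opensRange : Set P) := by
        rw [c.range_θ]; exact hVc hy
      obtain ⟨z, rfl⟩ := this
      exact ⟨z, show c.ψ (p z) ∈ V from hw z ▸ hy, rfl⟩
  let ε := IsOpenImmersion.isoOfRangeEq j k hr
  have hε : ε.hom ≫ k = j := IsOpenImmersion.isoOfRangeEq_hom_fac _ _ _
  refine subsingleton_HH_of_isIso ε.hom
    (isFinLocFree_iso (AmpleLib.restrictIso k M).symm (PullbackMod.isFinLocFree_pullback k M hM)) i ?_
  refine CurveLib.subsingleton_HH_iso ((AmpleLib.restrictIso (p ⁻¹ᵁ W).ι _) ≪≫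
    (Scheme.Modules.pullbackComp (p ⁻¹ᵁ W).ι c.θ).app M ≪≫ (Scheme.Modules.pullbackCongr hε).symm.app M ≪≫
    (Scheme.Modules.pullbackComp ε.hom k).symm.app M ≪≫
    (Scheme.Modules.pullback ε.hom).mapIso (AmpleLib.restrictIso k M).symm) i ?_
  haveI hq : Coh.IsQCoh (O r S d) :=
    (PullbackMod.isQCoh_and_isFP_of_isFinLocFree _ (isFinLocFree_O r S d)).1
  haveI : HasInjectiveResolutions (KRR.PY r S).Modules := inferInstance
  haveI : IsProper p := BCLib.isProper_toBase r S
  refine CurveLib.subsingleton_HH_iso ((Scheme.Modules.restrictFunctor (p ⁻¹ᵁ W).ι).mapIso e).symm i ?_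
  refine AmpleEmb.subsingleton_HH_of_isZero_rpush p (O r S d) hW i ?_
  have h1 : IsZero ((QCohLib.toAbF S).obj ((Coh.Rpush p i).obj (O r S d))) :=
    IsZero.of_iso (S4471.result S r i d h) ((RpushLib.toAbRpushIso p i).app _)
  rw [IsZero.iff_id_eq_zero]
  exact (QCohLib.toAbF S).map_injective (h1.eq_of_src _ _)

/-- Higher direct images of modules that are twists on every chart. -/
theorem isZero_rpushAb_of_charts (hc : ∀ x : X, ∃ c : Chart r π E O1, x ∈ Set.range c.ψ)
    [QuasiCompact π] [QuasiSeparated π] {M : P.Modules} (hM : FlatMod.IsFinLocFree M) {d : ℤ}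
    (he : ∀ c : Chart r π E O1, Nonempty (c.loc.obj M ≅ O r (Spec c.R) d))
    (i : ℕ) (h : ¬ ((i = 0 ∧ 0 ≤ d) ∨ (i = r ∧ d ≤ -((r : ℤ) + 1)))) :
    IsZero ((Coh.RpushAb π i).obj (Coh.toAb M)) := by
  haveI := (PullbackMod.isQCoh_and_isFP_of_isFinLocFree M hM).1
  haveI : HasInjectiveResolutions P.Modules := inferInstance
  refine ((RpushLib.toAbRpushIso π i).app M).isZero_iff.1
    ((QCohLib.toAbF X).map_isZero (DCohLib.isZero_of_stalks fun y => ?_))
  refine subsingleton_of_forall_eq 0 fun z => ?_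
  obtain ⟨U, hy, s, rfl⟩ := TopCat.Presheaf.exists_germ_eq (((Coh.Rpush π i).obj M).presheaf) z
  obtain ⟨c, hcy⟩ := hc y
  obtain ⟨V, hV, hyV, hVU⟩ := exists_isAffineOpen_mem_and_subset (X := X) (U := U ⊓ c.ψ.opensRange)
    (x := y) ⟨hy, hcy⟩
  obtain ⟨D, -⟩ := RpushLib.exists_sections_equiv (M := M) π i hV
  obtain ⟨e⟩ := he c
  haveI := c.subsingleton_HH hM e i h hV (le_trans (show V ≤ U ⊓ c.ψ.opensRange from hVU) inf_le_right)
  have hle : V ≤ U := le_trans (show V ≤ U ⊓ c.ψ.opensRange from hVU) inf_le_left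
  have h0 : ((Coh.Rpush π i).obj M).presheaf.map (homOfLE hle).op s = 0 :=
    @Subsingleton.elim _ D.toEquiv.subsingleton _ _
  rw [← TopCat.Presheaf.germ_res_apply _ (homOfLE hle) y hyV]
  exact (congrArg _ h0).trans (map_zero _)

/-- A projective bundle is proper. -/
theorem isProper_of_charts (hc : ∀ x : X, ∃ c : Chart r π E O1, x ∈ Set.range c.ψ) : IsProper π := by
  choose c hcx using hc
  let 𝒰 : X.OpenCover := Scheme.Cover.mkOfCovers X (fun x => Spec (c x).R) (fun x => (c x).ψ)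
    (fun x => ⟨x, hcx x⟩) (fun x => (c x).open_)
  refine IsZariskiLocalAtTarget.of_openCover (P := @IsProper) 𝒰 fun x => ?_
  show IsProper (pullback.snd π (c x).ψ)
  haveI : IsProper (KRR.pr r (Spec (c x).R)) := BCLib.isProper_toBase r _
  rw [← (c x).sq.isoPullback_inv_snd]
  infer_instance

end Groth.Agent.PBundleLib
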