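import Groth.Agent.ProjBundleLib.AffinePn
import Groth.Agent.ProjBundleLib.TwistIso
import Groth.Agent.RelVALib.Immersion
import Groth.Prelude.Def_KRR

/-!
# A projective bundle with a frame over an affine base is projective space
-/

set_option autoImplicit false
set_option linter.style.haveILetI false
set_option maxHeartbeats 1000000
set_option backward.isDefEq.respectTransparency false

universe u

open CategoryTheory CategoryTheory.Limits AlgebraicGeometry TopologicalSpace Opposite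
open Groth.Agent.ParaFLib Groth.Agent.RelSpecLib Groth.Agent.PullbackMod Groth.Agent.ProjBundleLib Groth.Agent.AmpleLib

noncomputable section

namespace Groth.Agent.PBundleLib

variable {Y P : Scheme.{u}} {p : P ⟶ Y} {E : Y.Modules} {O1 : P.Modules}
  {φ : E ⟶ (Scheme.Modules.pushforward p).obj O1}

theorem exists_iso_projSpace [IsAffine Y] (D : PData p E O1 φ) {n : ℕ}
    (β : Module.Basis (Fin (n + 1)) Γ(Y, ⊤) Γ(E, ⊤)) :
    ∃ i : P ≅ KRR.PY n Y, i.hom ≫ KRR.pr n Y = p ∧
      Nonempty ((Scheme.Modules.pullback i.hom).obj (Twist.twistOver n Y 1) ≅ O1) := by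
  let e : Fin (n + 1) → Γ(E, ⊤) := fun a => β a
  have he : ∀ v : Γ(E, ⊤), ∃ c : Fin (n + 1) → Γ(Y, ⊤), ∑ a, c a • e a = v :=
    fun v => ⟨fun a => β.repr v a, β.sum_repr v⟩
  classical
  have hT : IsAffineOpen (⊤ : Y.Opens) := isAffineOpen_top Y
  let coordHom : ∀ e₀ : Γ(E, ⊤), Γ(E, ⊤) →+ Γ(P, D.DPl hT e₀) := fun e₀ =>
    AddMonoidHom.mk' (D.coord hT e₀) (D.coord_add hT e₀)
  have hsum : ∀ (e₀ : Γ(E, ⊤)) (c : Fin (n + 1) → Γ(Y, ⊤)),
      D.coord hT e₀ (∑ a, c a • e a) =
        ∑ a, (p.appLE ⊤ _ (D.DPl_le hT e₀)).hom (c a) * D.coord hT e₀ (e a) := fun e₀ c =>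
    (map_sum (coordHom e₀) _ _).trans (Finset.sum_congr rfl fun a _ => D.coord_smul hT e₀ _ _)
  have hcov : ∀ y : P, ∃ a, y ∈ D.DPl hT (e a) := fun y => by
    obtain ⟨v, hv⟩ := D.cover hT (x := y) trivial
    obtain ⟨c, rfl⟩ := he v
    by_contra hne
    push Not at hne
    have h1 := D.coord_self hT (∑ a, c a • e a)
    rw [hsum] at h1
    have h2 := congrArg (P.presheaf.germ _ y hv) h1
    rw [map_sum, map_one] at h2
    have hm : (1 : P.presheaf.stalk y) ∈ IsLocalRing.maximalIdeal (P.presheaf.stalk y) := by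
      rw [← h2]
      refine Ideal.sum_mem _ fun a _ => ?_
      rw [map_mul]
      refine Ideal.mul_mem_left _ _ fun hu => hne a ?_
      have h3 := (Scheme.mem_basicOpen _ (D.coord hT (∑ a, c a • e a) (e a)) y hv).2 hu
      rw [D.basicOpen_coord hT] at h3
      exact h3.2
    exact hm isUnit_one
  let F : AmpleEmb.RatioFamily P n :=
    { U := fun a => D.DPl hT (e a)
      affine := fun a => D.isAffineOpen_DPl hT (e a)
      cover := eq_top_iff.2 fun y _ => Opens.mem_iSup.2 (hcov y)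
      t := fun i a => D.coord hT (e i) (e a)
      t_self := fun i => D.coord_self hT (e i)
      t_open := fun i a => D.basicOpen_coord hT (e i) (e a)
      t_mul := fun i j a => by
        refine TopCat.Presheaf.section_ext P.sheaf _ _ _ fun y hy => ?_
        show P.presheaf.germ _ y hy (P.presheaf.map _ (D.coord hT (e j) (e a))) =
          P.presheaf.germ _ y hy (P.presheaf.map _ (D.coord hT (e j) (e i)) * P.presheaf.map _ (D.coord hT (e i) (e a)))
        rw [map_mul, TopCat.Presheaf.germ_res_apply, TopCat.Presheaf.germ_res_apply, TopCat.Presheaf.germ_res_apply]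
        have h1 := D.germφ_eq hT (e j) (e a) hy.2
        have h2 := D.germφ_eq hT (e j) (e i) hy.2
        have h3 := D.germφ_eq hT (e i) (e a) hy.1
        refine (D.bijective_germφ hT (e j) hy.2).1 ?_
        show _ • _ = (_ * _) • _
        rw [← h1, mul_comm, mul_smul, ← h2]
        exact h3 }
  let gl : Fin (n + 1) → Γ(O1, ⊤) := fun a => φ.app ⊤ (e a)
  let s : Fin (n + 1) → (Coh.structureModule P ⟶ O1) := fun a => DCohLib.secHom O1 (gl a)
  have hgen : ∀ i, Gen (F.U i) (resT (AmpleLib.sec (s i)) (F.U i)) := fun i => by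
    rw [AmpleLib.sec_secHom]
    exact D.gen_sec hT (e i)
  have hratio : ∀ i a, F.t i a • resT (AmpleLib.sec (s i)) (F.U i) = resT (AmpleLib.sec (s a)) (F.U i) := fun i a => by
    rw [AmpleLib.sec_secHom, AmpleLib.sec_secHom]
    exact (D.sec_eq hT (e i) (e a)).symm
  let m : P ⟶ KRR.PY n Y := AmpleEmb.toProjOver p F
  have hm : m ≫ CohB1.ProjSpaceOver.toBase n Y = p := AmpleEmb.toProjOver_toBase p F
  obtain ⟨τ⟩ := AmpleEmb.nonempty_iso_pullback_twistOne (AmpleEmb.intConst P) F s hgen hratio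
  suffices IsIso m from ⟨asIso m, hm, ⟨(Scheme.Modules.pullbackComp m (ProjMap.toInt Y n)).app _ ≪≫
    (Scheme.Modules.pullbackCongr (AmpleEmb.toProjOver_toInt p F)).app _ ≪≫ τ.symm⟩⟩
  refine (IsZariskiLocalAtTarget.iff_of_iSup_eq_top (P := MorphismProperty.isomorphisms Scheme)
    (fun a : ULift.{u} (Fin (n + 1)) => AmpleEmb.overOpen (Y := Y) a.down) ?_).2 fun a => ?_
  · refine eq_top_iff.2 fun z _ => ?_
    obtain ⟨a, ha⟩ := Opens.mem_iSup.1
      ((AmpleEmb.iSup_stdOpen n (ULift.{u} ℤ)).ge (Opens.mem_top (ProjMap.toInt Y n z)))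
    exact Opens.mem_iSup.2 ⟨⟨a⟩, ha⟩
  · obtain ⟨a⟩ := a
    have hpre : m ⁻¹ᵁ AmpleEmb.overOpen (Y := Y) a = D.DPl hT (e a) := AmpleEmb.preimage_overOpen p F a
    let O := AmpleEmb.overOpen (Y := Y) a
    refine isIso_of_bijective_appLE m hpre (AmpleEmb.isAffineOpen_overOpen a) (D.isAffineOpen_DPl hT (e a)) ?_
    let ρ := (m.appLE O (D.DPl hT (e a)) hpre.ge).hom
    let ρ₀ := ((CohB1.ProjSpaceOver.toBase n Y).appLE ⊤ O (fun _ _ => trivial)).hom
    let t : Fin (n + 1) → Γ(KRR.PY n Y, O) := fun b =>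
      (ProjMap.toInt Y n).appLE _ O le_rfl (AmpleEmb.coordRatio n (ULift.{u} ℤ) a b)
    have hρt : ∀ b, ρ (t b) = D.coord hT (e a) (e b) := fun b => by
      show ((ProjMap.toInt Y n).appLE _ O le_rfl ≫ m.appLE O _ hpre.ge) _ = _
      rw [Scheme.Hom.appLE_comp_appLE]
      refine Eq.trans ?_ (AmpleEmb.toProj_appLE_ratio (AmpleEmb.intConst P) F a b)
      simp only [m, AmpleEmb.toProjOver_toInt]
      rfl
    have hρc : ∀ w, ρ (ρ₀ w) = p.appLE ⊤ _ (D.DPl_le hT (e a)) w := fun w => by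
      show ((CohB1.ProjSpaceOver.toBase n Y).appLE ⊤ O _ ≫ m.appLE O _ hpre.ge) _ = _
      rw [Scheme.Hom.appLE_comp_appLE]
      simp only [hm]
    let c : Γ(E, ⊤) →+ Γ(KRR.PY n Y, O) :=
      AddMonoidHom.mk' (fun v => ∑ b, ρ₀ (β.repr v b) * t b) fun v v' => by
        simp [add_mul, Finset.sum_add_distrib]
    have hc : ∀ w v, c (w • v) = ρ₀ w * c v := fun w v => by
      simp [c, Finset.mul_sum, mul_assoc]
    have hca : ∀ b, c (e b) = t b := fun b => by
      simp [c, e, Finsupp.single_apply, apply_ite ρ₀, ite_mul]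
    have htaa : t a = 1 := by
      show (ProjMap.toInt Y n).appLE _ O le_rfl _ = 1
      have h1 : AmpleEmb.coordRatio n (ULift.{u} ℤ) a a = 1 :=
        (AmpleEmb.gen_coordSec n (ULift.{u} ℤ) a _ le_rfl).1 (by
          simp only [ParaFLib.res_self, one_smul]
          exact AmpleEmb.coordRatio_smul n _ a a)
      rw [h1, map_one]
    obtain ⟨θ, hθ⟩ := D.exists_hom hT (e a) ρ₀ c hc ((hca a).trans htaa)
    have hθc : ∀ w, θ (p.appLE ⊤ _ (D.DPl_le hT (e a)) w) = ρ₀ w := fun w => by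
      have h := hθ (w • e a)
      rw [D.coord_smul, D.coord_self, mul_one, hc, hca, htaa, mul_one] at h
      exact h
    have H : IsPullback (ProjMap.toInt Y n) (CohB1.ProjSpaceOver.toBase n Y)
        (CohB1.ProjSpace.toSpec n (ULift.{u} ℤ)) (specULiftZIsTerminal.from Y) := IsPullback.of_hasPullback _ _
    have hpo := (isIso_pushoutSection_iff H (US := ⊤) (UT := ⊤)
        (UX := AmpleEmb.stdOpen n (ULift.{u} ℤ) a) (UY := O) (fun _ _ => trivial) (fun _ _ => trivial)
        (by rw [Scheme.Hom.preimage_top, inf_top_eq])).1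
      (isIso_pushoutSection_of_isAffineOpen H _ _ _ (isAffineOpen_top _) (isAffineOpen_top Y)
        (AmpleEmb.isAffineOpen_stdOpen n _ a))
    have hcl := AffLim.closure_range_eq_top hpo
    refine ⟨?_, fun z => ?_⟩
    · suffices h : θ.comp ρ = RingHom.id _ from Function.LeftInverse.injective fun z => congr($h z)
      refine RingHom.eq_of_eqOn_set_dense hcl ?_
      rintro _ (⟨w, rfl⟩ | ⟨w, rfl⟩)
      · let K := RingHom.eqLocus (θ.comp ρ) (RingHom.id Γ(KRR.PY n Y, O))
        exact RelVALib.mem_of_forall_coordRatio_mem a (K.comap ((ProjMap.toInt Y n).appLE _ O le_rfl).hom)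
          (fun b => show θ (ρ (t b)) = t b by rw [hρt, hθ, hca]) w
      · show θ (ρ (ρ₀ w)) = ρ₀ w
        rw [hρc, hθc]
    · suffices z ∈ ρ.range from this
      refine (Subring.closure_le (t := ρ.range)).2 ?_ ((D.closure_coord hT (e a)).ge (Subring.mem_top z))
      rintro _ ⟨v, rfl⟩
      obtain ⟨cv, rfl⟩ := he v
      rw [hsum]
      exact sum_mem fun b _ => mul_mem ⟨ρ₀ (cv b), hρc _⟩ ⟨t b, hρt b⟩

end Groth.Agent.PBundleLib
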