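import Groth.Agent.PBundleLib.Univ
import Groth.Agent.PBundleLib.Local
import Groth.Agent.ProjBundleLib.PnProj
import Groth.Agent.PullbackMod.LocFree

/-!
# A projective bundle is locally a projective space
-/

set_option autoImplicit false
set_option linter.style.haveILetI false
set_option maxHeartbeats 1000000
set_option backward.isDefEq.respectTransparency false

universe u

open CategoryTheory CategoryTheory.Limits AlgebraicGeometry TopologicalSpace Opposite
open Groth.Agent.PullbackMod Groth.Agent.ProjBundleLib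

noncomputable section

namespace Groth.Agent.PBundleLib

variable {X P : Scheme.{u}}

/-- An affine chart trivialising a projective bundle. -/
structure Chart (r : ℕ) (π : P ⟶ X) (E : X.Modules) (O1 : P.Modules) where
  R : CommRingCat.{u}
  ψ : Spec R ⟶ X
  open_ : IsOpenImmersion ψ
  θ : KRR.PY r (Spec R) ⟶ P
  sq : IsPullback θ (KRR.pr r (Spec R)) π ψ
  twist : Nonempty ((Scheme.Modules.pullback θ).obj O1 ≅ Twist.twistOver r (Spec R) 1)
  free : Nonempty ((Scheme.Modules.pullback ψ).obj E ≅ FlatMod.freeMod (Spec R) (r + 1))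

instance {r : ℕ} {π : P ⟶ X} {E : X.Modules} {O1 : P.Modules} (c : Chart r π E O1) :
    IsOpenImmersion c.ψ := c.open_

instance {r : ℕ} {π : P ⟶ X} {E : X.Modules} {O1 : P.Modules} (c : Chart r π E O1) :
    IsOpenImmersion c.θ := MorphismProperty.of_isPullback (P := @IsOpenImmersion) c.sq.flip c.open_

/-- A neighbourhood on which the module is free, from a spectrum. -/
theorem exists_free_spec {E : X.Modules} {n : ℕ} (hE : FlatMod.IsFinLocFreeOfRank n E) (x : X) :
    ∃ (R : CommRingCat.{u}) (ψ : Spec R ⟶ X), IsOpenImmersion ψ ∧ x ∈ Set.range ψ ∧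
      Nonempty ((Scheme.Modules.pullback ψ).obj E ≅ FlatMod.freeMod (Spec R) n) := by
  obtain ⟨U, hxU, ⟨e⟩⟩ := hE x
  obtain ⟨_, ⟨D : X.Opens, (hD : IsAffineOpen D), rfl⟩, hxD, hDU⟩ :=
    X.isBasis_affineOpens.exists_subset_of_mem_open (a := x) (u := ↑U) hxU U.2
  let v : Spec Γ(X, D) ⟶ (U : Scheme.{u}) := hD.isoSpec.inv ≫ X.homOfLE hDU
  let F := Scheme.Modules.restrictFunctor v
  haveI : PreservesColimitsOfSize.{u, u} F :=
    (Scheme.Modules.restrictAdjunction v).leftAdjoint_preservesColimits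
  haveI : PreservesColimitsOfSize.{0, 0} F := preservesColimitsOfSize_shrink _
  refine ⟨Γ(X, D), hD.fromSpec, inferInstance, hD.range_fromSpec.symm ▸ hxD, ⟨?_⟩⟩
  exact (Scheme.Modules.restrictFunctorIsoPullback hD.fromSpec).symm.app E ≪≫
    ((Scheme.Modules.restrictFunctorComp v U.ι).symm ≪≫
      Scheme.Modules.restrictFunctorCongr (g := hD.fromSpec)
        (show v ≫ U.ι = hD.fromSpec by simp [v, IsAffineOpen.isoSpec_inv_ι])).symm.app E ≪≫
    F.mapIso e ≪≫ PreservesCoproduct.iso F _ ≪≫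
    Limits.Sigma.mapIso (fun _ => Scheme.Modules.restrictUnitIso v)

/-- The free module on a spectrum is a tilde. -/
theorem nonempty_free_tilde (n : ℕ) (R : CommRingCat.{u}) :
    Nonempty (freeTilde n R ≅ FlatMod.freeMod (Spec R) (n + 1)) := by
  let l : (ULift.{u} (Fin (n + 1)) →₀ R) ≃ₗ[R] (Fin (n + 1) → R) :=
    (Finsupp.linearEquivFunOnFinite _ _ _).trans
      (LinearEquiv.funCongrLeft _ _ (Equiv.ulift.{u, 0} (α := Fin (n + 1))).symm)
  exact ⟨(tilde.functor R).mapIso l.symm.toModuleIso ≪≫ tildeFinsupp _ ≪≫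
    Sigma.whiskerEquiv (f := fun _ : ULift.{u} (Fin (n + 1)) => Coh.structureModule (Spec R))
      (g := fun _ : Fin (n + 1) => Coh.structureModule (Spec R))
      (Equiv.ulift.{u, 0} (α := Fin (n + 1))) fun _ => Iso.refl _⟩

/-- A basis of the global sections of a module isomorphic to a free one. -/
theorem exists_basis_top (n : ℕ) (R : CommRingCat.{u}) {E : (Spec R).Modules} (f : freeTilde n R ≅ E) :
    Nonempty (Module.Basis (Fin (n + 1)) Γ(Spec R, ⊤) Γ(E, ⊤)) := by
  classical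
  let T := tilde.toOpen (ModuleCat.of R (Fin (n + 1) → R)) ⊤
  have hbij : Function.Bijective (fun v : Γ(freeTilde n R, ⊤) => f.hom.app ⊤ v) :=
    ConcreteCategory.bijective_of_isIso (f.hom.app ⊤)
  let L := Fintype.linearCombination Γ(Spec R, ⊤) (fun i => f.hom.app ⊤ (freeSec n R i))
  have key : ∀ c : Fin (n + 1) → Γ(Spec R, ⊤), L c =
      f.hom.app ⊤ (T.hom (fun i => (Scheme.ΓSpecIso R).hom (c i))) := fun c => by
    have h2 : T.hom (fun i => (Scheme.ΓSpecIso R).hom (c i)) =
        ∑ i, c i • freeSec n R i := by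
      rw [show (fun i => (Scheme.ΓSpecIso R).hom (c i)) =
        ∑ i, (Scheme.ΓSpecIso R).hom (c i) • (Pi.single i (1 : R) : Fin (n + 1) → R) by
          funext j; simp [Finset.sum_apply, Pi.single_apply], map_sum]
      refine Finset.sum_congr rfl fun i _ => ?_
      rw [map_smul]
      refine Eq.trans ?_ (congrArg (fun a : Γ(Spec R, ⊤) => a • freeSec n R i)
        (congr(($((Scheme.ΓSpecIso R).hom_inv_id)).hom (c i))))
      rw [Scheme.Modules.smul_Spec_def, show ((⊤ : (Spec R).Opens).leTop).op = 𝟙 (op ⊤) from Subsingleton.elim _ _,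
        (Spec R).presheaf.map_id]
      rfl
    rw [h2, map_sum]
    show ∑ i, c i • f.hom.app ⊤ (freeSec n R i) = _
    exact Finset.sum_congr rfl fun i _ => (f.hom.app_smul (c i) _).symm
  have hL : Function.Bijective L := by
    rw [show (L : _ → _) = _ from funext key]
    refine hbij.comp ((ConcreteCategory.bijective_of_isIso T).comp ?_)
    exact (Equiv.piCongrRight fun _ : Fin (n + 1) =>
      Equiv.ofBijective _ (ConcreteCategory.bijective_of_isIso (Scheme.ΓSpecIso R).hom)).bijective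
  exact ⟨Module.Basis.ofEquivFun (LinearEquiv.ofBijective L hL).symm⟩

/-- A projective bundle has a chart at every point. -/
theorem exists_chart {r : ℕ} {E : X.Modules} (hE : FlatMod.IsFinLocFreeOfRank (r + 1) E) {π : P ⟶ X}
    {O1 : P.Modules} {q : (Scheme.Modules.pullback π).obj E ⟶ O1} (hPB : KRR.IsProjBundle π E O1 q) (x : X) :
    ∃ c : Chart r π E O1, x ∈ Set.range c.ψ := by
  haveI hq : Coh.IsQCoh E := (isQCoh_and_isFP_of_isFinLocFree E fun y => (hE y).imp fun U h => ⟨r + 1, h⟩).1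
  obtain ⟨Q, p, OQ, φ, ⟨D⟩⟩ := exists_bundle hq
  obtain ⟨i, hi, ⟨ei⟩⟩ := exists_iso (isProjBundle_of_pdata D) hPB
  obtain ⟨R, ψ, hψ, hx, ⟨f⟩⟩ := exists_free_spec hE x
  haveI := hψ
  haveI : Coh.IsQCoh ((Scheme.Modules.pullback ψ).obj E) := isQCoh_pullback ψ E
  obtain ⟨Q', p', OQ', φ', ⟨D'⟩⟩ := exists_bundle (inferInstance : Coh.IsQCoh ((Scheme.Modules.pullback ψ).obj E))
  obtain ⟨k, hk, -⟩ := D.existsUnique_compat_of_gens D'.isInvertible_O1 (D'.gens.down ψ D.hE)
  obtain ⟨t⟩ := nonempty_free_tilde r R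
  obtain ⟨β⟩ := exists_basis_top r R (t ≪≫ f.symm)
  obtain ⟨j, hj, ⟨ej⟩⟩ := exists_iso_projSpace D' β
  have w : k ≫ p = p' ≫ ψ := hk.1.trans (Category.id_comp _)
  have hsq : IsPullback k p' p ψ := by
    choose c hc huniq using fun s : PullbackCone p ψ => exists_lift ψ D' hk D s.fst s.snd s.condition
    exact IsPullback.of_isLimit' ⟨w⟩ (PullbackCone.IsLimit.mk w c (fun s => (hc s).1) (fun s => (hc s).2)
      fun s m h1 h2 => huniq s m ⟨h1, h2⟩)
  obtain ⟨-, τ, -⟩ := D.exists_iso_of_compat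
    (((Scheme.Modules.pullbackPushforwardAdjunction (p' ≫ ψ)).homEquiv E OQ').symm (ProjBundleLib.down ψ φ')) (r := k)
    (by simpa only [sigma, Equiv.apply_symm_apply] using hk)
  refine ⟨⟨R, ψ, hψ, j.inv ≫ k ≫ i.hom, ?_, ⟨?_⟩, ⟨f⟩⟩, hx⟩
  · refine IsPullback.of_iso hsq j i (Iso.refl _) (Iso.refl _) ?_ ?_ ?_ ?_
    · simp
    · simpa using hj.symm
    · simpa using hi.symm
    · simp
  · refine (Scheme.Modules.pullbackComp j.inv (k ≫ i.hom)).symm.app O1 ≪≫ (Scheme.Modules.pullback j.inv).mapIso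
      ((Scheme.Modules.pullbackComp k i.hom).symm.app O1 ≪≫ (Scheme.Modules.pullback k).mapIso ei ≪≫ τ ≪≫ ej.symm) ≪≫
      (Scheme.Modules.pullbackComp j.inv j.hom).app _ ≪≫ (Scheme.Modules.pullbackCongr j.inv_hom_id).app _ ≪≫
      (Scheme.Modules.pullbackId _).app _

end Groth.Agent.PBundleLib
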