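import Groth.Agent.PBundleLib.Atlas
import Groth.Agent.RegLib.KData
import Groth.Agent.DCohLib.ProjFlf
import Groth.Agent.EtAssocLib.Compare
import Groth.Agent.AmpleEmb.Inverse

/-!
# Reading a projective bundle on a chart
-/

set_option autoImplicit false
set_option linter.style.haveILetI false
set_option linter.unusedSectionVars false
set_option maxHeartbeats 1000000
set_option backward.isDefEq.respectTransparency false

universe u

open CategoryTheory CategoryTheory.Limits AlgebraicGeometry TopologicalSpace Opposite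
open Groth.Agent.DCohLib Groth.Agent.DCohMore.TwistOver

attribute [local instance] HasDerivedCategory.standard

noncomputable section

namespace Groth.Agent.PBundleLib

/-- The transpose along an open immersion of a map bijective over the image is an isomorphism. -/
theorem isIso_symm_of_bijective {W X : Scheme.{u}} (j : W ⟶ X) [IsOpenImmersion j] {A : X.Modules} {B : W.Modules}
    (h : A ⟶ (Scheme.Modules.pushforward j).obj B)
    (hb : ∀ V : X.Opens, V ≤ j.opensRange → Function.Bijective (h.app V)) :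
    IsIso (((Scheme.Modules.pullbackPushforwardAdjunction j).homEquiv A B).symm h) := by
  let adj := Scheme.Modules.pullbackPushforwardAdjunction j
  let f := (adj.homEquiv A B).symm h
  have hf : h = adj.unit.app A ≫ (Scheme.Modules.pushforward j).map f :=
    ((Equiv.apply_symm_apply _ h).symm.trans (Adjunction.homEquiv_unit _ _ _ _))
  refine ParaFLib.isIso_of_locally_app _ fun y => ⟨⊤, trivial, fun O _ => ?_⟩
  let V := j ''ᵁ O
  have hV : V ≤ j.opensRange := j.image_le_opensRange O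
  have hpre : j ⁻¹ᵁ V = O := j.preimage_image_eq O
  have h1 : Function.Bijective (f.app (j ⁻¹ᵁ V)) := by
    have h2 := hb V hV
    rw [hf] at h2
    have h3 : Function.Bijective (PullbackMod.pullMap j A (le_refl (j ⁻¹ᵁ V))) :=
      EtAssocLib.pullMap_bijective j A le_rfl hV le_rfl
    have h4 : (fun a => f.app (j ⁻¹ᵁ V) (PullbackMod.pullMap j A (le_refl (j ⁻¹ᵁ V)) a)) =
        fun a => (adj.unit.app A ≫ (Scheme.Modules.pushforward j).map f).app V a := funext fun a => by
      simp only [PullbackMod.pullMap, AddMonoidHom.coe_comp, Function.comp_apply, ParaFLib.res_self]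
      rfl
    refine (Function.Bijective.of_comp_iff _ h3).1 ?_
    rw [Function.comp_def, h4]
    exact h2
  rwa [hpre] at h1

variable {X P : Scheme.{u}} {r : ℕ} {π : P ⟶ X} {E : X.Modules} {O1 : P.Modules}

namespace Chart

variable (c : Chart r π E O1)

/-- A module on the bundle, on the chart. -/
abbrev loc : P.Modules ⥤ (KRR.PY r (Spec c.R)).Modules := Scheme.Modules.pullback c.θ

theorem range_θ : (c.θ.opensRange : Set P) = π ⁻¹' (c.ψ.opensRange : Set X) := by
  rw [Scheme.Hom.coe_opensRange, Scheme.Hom.coe_opensRange]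
  rw [← c.sq.isoPullback_hom_fst]
  have h := IsOpenImmersion.range_pullbackFst c.ψ π
  rw [← Scheme.Hom.coe_opensRange c.ψ]
  refine Eq.trans ?_ h
  ext y
  exact ⟨fun ⟨z, hz⟩ => ⟨c.sq.isoPullback.hom z, hz⟩,
    fun ⟨z, hz⟩ => ⟨c.sq.isoPullback.inv z, by rw [← hz]; simp [← Scheme.Hom.comp_apply]⟩⟩

/-- Inverse image to the chart of the direct image, as a transpose. -/
def hBC (M : P.Modules) : (Scheme.Modules.pushforward π).obj M ⟶
    (Scheme.Modules.pushforward c.ψ).obj
      ((Scheme.Modules.pushforward (KRR.pr r (Spec c.R))).obj (c.loc.obj M)) :=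
  (Scheme.Modules.pushforward π).map ((Scheme.Modules.pullbackPushforwardAdjunction c.θ).unit.app M) ≫
    (Scheme.Modules.pushforwardComp c.θ π).hom.app _ ≫
    (Scheme.Modules.pushforwardCongr c.sq.w).hom.app _ ≫
    (Scheme.Modules.pushforwardComp (KRR.pr r (Spec c.R)) c.ψ).inv.app _

theorem hBC_naturality {M N : P.Modules} (g : M ⟶ N) :
    (Scheme.Modules.pushforward π).map g ≫ c.hBC N = c.hBC M ≫
      (Scheme.Modules.pushforward c.ψ).map ((Scheme.Modules.pushforward (KRR.pr r (Spec c.R))).map (c.loc.map g)) := by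
  have h1 := (Scheme.Modules.pullbackPushforwardAdjunction c.θ).unit.naturality g
  simp only [hBC, Category.assoc]
  rw [← Functor.map_comp_assoc]
  erw [h1]
  rw [Functor.map_comp_assoc]
  refine congrArg (_ ≫ ·) ?_
  erw [(Scheme.Modules.pushforwardComp c.θ π).hom.naturality_assoc,
    (Scheme.Modules.pushforwardCongr c.sq.w).hom.naturality_assoc,
    (Scheme.Modules.pushforwardComp (KRR.pr r (Spec c.R)) c.ψ).inv.naturality]

theorem hBC_bijective (M : P.Modules) (V : X.Opens) (hV : V ≤ c.ψ.opensRange) :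
    Function.Bijective ((c.hBC M).app V) := by
  have hle : π ⁻¹ᵁ V ≤ c.θ.opensRange := fun y hy => by
    have : y ∈ π ⁻¹' (c.ψ.opensRange : Set X) := hV hy
    rwa [← c.range_θ] at this
  have h1 : Function.Bijective (((Scheme.Modules.pullbackPushforwardAdjunction c.θ).unit.app M).app (π ⁻¹ᵁ V)) := by
    have h := EtAssocLib.pullMap_bijective c.θ M (le_refl (c.θ ⁻¹ᵁ (π ⁻¹ᵁ V))) hle le_rfl
    have e : (PullbackMod.pullMap c.θ M (le_refl (c.θ ⁻¹ᵁ (π ⁻¹ᵁ V))) : _ → _) =
        ((Scheme.Modules.pullbackPushforwardAdjunction c.θ).unit.app M).app (π ⁻¹ᵁ V) := funext fun a => by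
      simp only [PullbackMod.pullMap, AddMonoidHom.coe_comp, Function.comp_apply, ParaFLib.res_self]
      rfl
    exact e ▸ h
  let T := (Scheme.Modules.pushforwardComp c.θ π).hom.app (c.loc.obj M) ≫
    (Scheme.Modules.pushforwardCongr c.sq.w).hom.app _ ≫
    (Scheme.Modules.pushforwardComp (KRR.pr r (Spec c.R)) c.ψ).inv.app _
  haveI : IsIso T := inferInstance
  exact (ConcreteCategory.bijective_of_isIso (T.app V)).comp h1

/-- Direct images commute with restriction to the chart. -/
def β (M : P.Modules) : (Scheme.Modules.pullback c.ψ).obj ((Scheme.Modules.pushforward π).obj M) ≅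
    (Scheme.Modules.pushforward (KRR.pr r (Spec c.R))).obj (c.loc.obj M) :=
  @asIso _ _ _ _ _ (isIso_symm_of_bijective c.ψ (c.hBC M) (c.hBC_bijective M))

theorem β_naturality {M N : P.Modules} (g : M ⟶ N) :
    (Scheme.Modules.pullback c.ψ).map ((Scheme.Modules.pushforward π).map g) ≫ (c.β N).hom =
      (c.β M).hom ≫ (Scheme.Modules.pushforward (KRR.pr r (Spec c.R))).map (c.loc.map g) := by
  simp only [β, asIso_hom]
  rw [← Adjunction.homEquiv_naturality_left_symm, hBC_naturality, Adjunction.homEquiv_naturality_right_symm]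

/-- Inverse images from the base, on the chart. -/
def locPull (N : X.Modules) : c.loc.obj ((Scheme.Modules.pullback π).obj N) ≅
    (Scheme.Modules.pullback (KRR.pr r (Spec c.R))).obj ((Scheme.Modules.pullback c.ψ).obj N) :=
  (Scheme.Modules.pullbackComp c.θ π).app N ≪≫ (Scheme.Modules.pullbackCongr c.sq.w).app N ≪≫
    (Scheme.Modules.pullbackComp (KRR.pr r (Spec c.R)) c.ψ).symm.app N

theorem nonempty_loc_tensor {L : P.Modules} {d : ℤ} (e : c.loc.obj L ≅ O r (Spec c.R) d) (M : P.Modules) :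
    Nonempty (c.loc.obj (tmod L M) ≅ (T r (Spec c.R) d).obj (c.loc.obj M)) :=
  ⟨((pullTensorBiIsoSch c.θ).app L).app M ≪≫ ((DCoh.tensorBi (X := KRR.PY r (Spec c.R))).mapIso e).app _⟩

theorem nonempty_loc_pow (n : ℕ) :
    Nonempty (c.loc.obj (CohB1.tensorPow O1 n) ≅ O r (Spec c.R) (n : ℤ)) := by
  induction n with
  | zero =>
    obtain ⟨z⟩ := nonempty_zero r (Spec c.R)
    exact ⟨AmpleLib.pullO c.θ ≪≫ z.symm⟩
  | succ n ih =>
    obtain ⟨e⟩ := ih
    obtain ⟨t⟩ := c.twist
    obtain ⟨m⟩ := nonempty_mul r (Spec c.R) (show (n : ℤ) + 1 = ((n + 1 : ℕ) : ℤ) by push_cast; rfl)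
    exact ⟨AmpleLib.pullTensor c.θ _ _ ≪≫ AmpleLib.tIso e t ≪≫ m⟩

theorem nonempty_loc_inv {Oi : P.Modules} (h : CohB1.tensorMod O1 Oi ≅ Coh.structureModule P) :
    Nonempty (c.loc.obj Oi ≅ O r (Spec c.R) (-1)) := by
  obtain ⟨t⟩ := c.twist
  obtain ⟨z⟩ := nonempty_zero r (Spec c.R)
  obtain ⟨m⟩ := nonempty_mul r (Spec c.R) (show (-1 : ℤ) + 1 = 0 by norm_num)
  let L := O r (Spec c.R) 1
  let M := O r (Spec c.R) (-1)
  let N := c.loc.obj Oi
  have e : CohB1.tensorMod L N ≅ Coh.structureModule _ :=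
    AmpleLib.tIso t.symm (Iso.refl N) ≪≫ (AmpleLib.pullTensor c.θ O1 Oi).symm ≪≫ c.loc.mapIso h ≪≫ AmpleLib.pullO c.θ
  have e' : CohB1.tensorMod M L ≅ Coh.structureModule _ := m ≪≫ z
  exact ⟨(AmpleLib.unitL N).symm ≪≫ AmpleLib.tIso e'.symm (Iso.refl N) ≪≫ AmpleLib.assoc M L N ≪≫
    AmpleLib.tIso (Iso.refl M) e ≪≫ (ModTensor.tensorUnitRight (KRR.PY r (Spec c.R)).sheaf).app M⟩

theorem nonempty_loc_pw {Oi : P.Modules} (h : CohB1.tensorMod O1 Oi ≅ Coh.structureModule P) :
    ∀ d : ℤ, Nonempty (c.loc.obj (AmpleEmb.pw O1 Oi d) ≅ O r (Spec c.R) d)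
  | Int.ofNat n => c.nonempty_loc_pow n
  | Int.negSucc n => by
    obtain ⟨t⟩ := c.nonempty_loc_inv h
    suffices ∀ m : ℕ, Nonempty (c.loc.obj (CohB1.tensorPow Oi m) ≅ O r (Spec c.R) (-(m : ℤ))) from this (n + 1)
    intro m
    induction m with
    | zero =>
      obtain ⟨z⟩ := nonempty_zero r (Spec c.R)
      exact ⟨AmpleLib.pullO c.θ ≪≫ z.symm⟩
    | succ m ih =>
      obtain ⟨e⟩ := ih
      obtain ⟨q⟩ := nonempty_mul r (Spec c.R) (show -(m : ℤ) + -1 = -((m + 1 : ℕ) : ℤ) by push_cast; ring)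
      exact ⟨AmpleLib.pullTensor c.θ _ _ ≪≫ AmpleLib.tIso e t ≪≫ q⟩

theorem isFinLocFree_loc {M : P.Modules} (hM : FlatMod.IsFinLocFree M) : FlatMod.IsFinLocFree (c.loc.obj M) :=
  PullbackMod.isFinLocFree_pullback _ _ hM

instance : PreservesFiniteLimits c.loc :=
  preservesFiniteLimits_of_natIso (Scheme.Modules.restrictFunctorIsoPullback c.θ)

instance : PreservesFiniteColimits c.loc :=
  haveI : PreservesColimitsOfSize.{u, u} c.loc :=
    (Scheme.Modules.pullbackPushforwardAdjunction c.θ).leftAdjoint_preservesColimits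
  haveI : PreservesColimitsOfSize.{0, 0} c.loc := preservesColimitsOfSize_shrink _
  PreservesColimitsOfSize.preservesFiniteColimits _

instance : c.loc.Additive :=
  (Scheme.Modules.pullbackPushforwardAdjunction c.θ).left_adjoint_additive

theorem shortExact_loc {S : ShortComplex P.Modules} (hS : S.ShortExact) : (S.map c.loc).ShortExact :=
  hS.map_of_exact c.loc

end Chart

/-- Charts covering the base. -/
def Covers {ι : Type*} (c : ι → Chart r π E O1) : Prop := ∀ x : X, ∃ i, x ∈ Set.range (c i).ψ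

theorem exists_atlas [CompactSpace X] (h : ∀ x : X, ∃ c : Chart r π E O1, x ∈ Set.range c.ψ) :
    ∃ (n : ℕ) (c : Fin n → Chart r π E O1), Covers c := by
  choose c hc using h
  obtain ⟨t, ht⟩ := isCompact_univ.elim_finite_subcover (fun x : X => Set.range (c x).ψ)
    (fun x => (c x).ψ.isOpenEmbedding.isOpen_range) (fun x _ => Set.mem_iUnion.2 ⟨x, hc x⟩)
  let e := t.equivFin
  refine ⟨t.card, fun i => c (e.symm i).1, fun x => ?_⟩
  obtain ⟨y, hy⟩ := Set.mem_iUnion.1 (ht (Set.mem_univ x))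
  obtain ⟨hyt, hxy⟩ := Set.mem_iUnion.1 hy
  refine ⟨e ⟨y, hyt⟩, ?_⟩
  show x ∈ Set.range (c (e.symm (e ⟨y, hyt⟩)).1).ψ
  rw [e.symm_apply_apply]
  exact hxy

variable {ι : Type*} {c : ι → Chart r π E O1}

theorem isZero_of_loc_base (hc : Covers c) {M : X.Modules}
    (h : ∀ i, IsZero ((Scheme.Modules.pullback (c i).ψ).obj M)) : IsZero M :=
  isZero_of_local fun x => by
    obtain ⟨i, y, hy⟩ := hc x
    exact ⟨_, (c i).ψ, inferInstance, y, hy,
      (h i).of_iso ((Scheme.Modules.restrictFunctorIsoPullback (c i).ψ).app M)⟩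

theorem isZero_of_loc (hc : Covers c) {M : P.Modules} (h : ∀ i, IsZero ((c i).loc.obj M)) : IsZero M :=
  isZero_of_local fun y => by
    obtain ⟨i, hi⟩ := hc (π y)
    have : y ∈ ((c i).θ.opensRange : Set P) := by rw [(c i).range_θ]; exact hi
    obtain ⟨z, hz⟩ := this
    exact ⟨_, (c i).θ, inferInstance, z, hz,
      (h i).of_iso ((Scheme.Modules.restrictFunctorIsoPullback (c i).θ).app M)⟩

theorem isFinLocFree_of_loc_base (hc : Covers c) {M : X.Modules}
    (h : ∀ i, FlatMod.IsFinLocFree ((Scheme.Modules.pullback (c i).ψ).obj M)) : FlatMod.IsFinLocFree M :=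
  isFinLocFree_of_local fun x => by
    obtain ⟨i, y, hy⟩ := hc x
    exact ⟨_, (c i).ψ, inferInstance, y, hy,
      isFinLocFree_iso ((Scheme.Modules.restrictFunctorIsoPullback (c i).ψ).app M).symm (h i)⟩

end Groth.Agent.PBundleLib
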