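import Groth.Agent.PBundleLib.Coev
import Groth.Agent.KVbLib.Ring
import Groth.Agent.RegLib.KMain
import Groth.Agent.VecFrameLib.Basic

/-!
# The push-forward of classes along a projective bundle
-/

set_option autoImplicit false
set_option linter.style.haveILetI false
set_option linter.unusedSectionVars false
set_option maxHeartbeats 1000000
set_option backward.isDefEq.respectTransparency false

universe u

open CategoryTheory CategoryTheory.Limits AlgebraicGeometry TopologicalSpace Opposite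
open Groth.Agent.DCohLib Groth.Agent.DCohMore Groth.Agent.DCohMore.TwistOver Groth.Agent.RegLib

attribute [local instance] HasDerivedCategory.standard

noncomputable section

namespace Groth.Agent.PBundleLib

/-- A projective bundle with a finite atlas. -/
structure PB (r : ℕ) {X P : Scheme.{u}} (π : P ⟶ X) (E : X.Modules) (O1 : P.Modules) where
  flfE : FlatMod.IsFinLocFree E
  line : FlatMod.IsFinLocFreeOfRank 1 O1
  q : (Scheme.Modules.pullback π).obj E ⟶ O1
  epi : Epi q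
  Oi : P.Modules
  inv : CohB1.tensorMod O1 Oi ≅ Coh.structureModule P
  invFlf : FlatMod.IsFinLocFree Oi
  n : ℕ
  chart : Fin n → Chart r π E O1
  covers : Covers chart

variable {X P : Scheme.{u}} [CompactSpace X] {r : ℕ} {π : P ⟶ X} {E : X.Modules} {O1 : P.Modules}

theorem exists_pb {q : (Scheme.Modules.pullback π).obj E ⟶ O1} (hPB : KRR.IsProjBundle π E O1 q)
    (hE : FlatMod.IsFinLocFreeOfRank (r + 1) E) {Oi : P.Modules}
    (h : CohB1.tensorMod O1 Oi ≅ Coh.structureModule P) (hOi : FlatMod.IsFinLocFree Oi) :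
    ∃ B : PB r π E O1, B.Oi = Oi := by
  obtain ⟨n, c, hc⟩ := exists_atlas (fun x => exists_chart hE hPB x)
  exact ⟨⟨fun x => (hE x).imp fun U h => ⟨r + 1, h⟩, hPB.invertible, q, hPB.epi, Oi, h, hOi, n, c, hc⟩, rfl⟩

/-- Coproducts of copies preserve vanishing. -/
theorem van_sigma {S : Scheme.{u}} {q d : ℤ} {M : (KRR.PY r S).Modules} (h : Van r S q d M) :
    ∀ c : ℕ, Van r S q d (∐ fun _ : Fin c => M)
  | 0 => van_of_module_isZero ((IsZero.iff_id_eq_zero _).2 (Sigma.hom_ext _ _ fun i => i.elim0)) q d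
  | c + 1 => by
    let A := ∐ fun _ : Fin c => M
    let B := ∐ fun _ : Fin 1 => M
    have hS : (ShortComplex.mk (biprod.inl : A ⟶ A ⊞ B) biprod.snd biprod.inl_snd).ShortExact :=
      ShortComplex.Splitting.shortExact (ShortComplex.Splitting.ofHasBinaryBiproduct A B)
    exact van_of_iso (TwistFam.sumCopiesIso M c 1) (van₂ hS q d (van_sigma h c)
      (van_of_iso (coproductUniqueIso fun _ : Fin 1 => M).symm h))

namespace PB

variable (B : PB r π E O1)

/-- The loci. -/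
abbrev S (i : Fin B.n) : Scheme.{u} := Spec (B.chart i).R

/-- The module on a chart. -/
abbrev L (i : Fin B.n) : P.Modules ⥤ (KRR.PY r (B.S i)).Modules := (B.chart i).loc

/-- The regularity classes. -/
def Rg (m : ℕ) (M : P.Modules) : Prop :=
  FlatMod.IsFinLocFree M ∧ ∀ (i : Fin B.n) (q : ℤ), 1 ≤ q → ∀ d : ℤ, (m : ℤ) - q ≤ d →
    Van r (B.S i) q d ((B.L i).obj M)

theorem Rg.mono {B : PB r π E O1} {m m' : ℕ} {M : P.Modules} (h : B.Rg m M) (hm : m ≤ m') : B.Rg m' M :=
  ⟨h.1, fun i q hq d hd => h.2 i q hq d (by omega)⟩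

theorem Rg.iso {B : PB r π E O1} {m : ℕ} {M N : P.Modules} (h : B.Rg m M) (e : M ≅ N) : B.Rg m N :=
  ⟨isFinLocFree_iso e h.1, fun i q hq d hd => van_of_iso ((B.L i).mapIso e) (h.2 i q hq d hd)⟩

theorem exists_rg {M : P.Modules} (hM : FlatMod.IsFinLocFree M) : ∃ m, B.Rg m M := by
  have h : ∀ i : Fin B.n, ∃ m : ℕ, ∀ (q : ℤ), 1 ≤ q → ∀ d : ℤ, (m : ℤ) - q ≤ d →
      Van r (B.S i) q d ((B.L i).obj M) := fun i => by
    have hl := (B.chart i).isFinLocFree_loc hM
    obtain ⟨m, hm⟩ := exists_vanishing (r := r) (S := B.S i) _ hl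
    obtain ⟨N, hN⟩ := exists_dim_bound (r := r) (S := B.S i)
    refine ⟨m + N, fun q hq d hd => ?_⟩
    rcases le_or_gt q N with h | h
    · exact hm d (by omega) q hq
    · obtain ⟨k, rfl⟩ := Int.eq_ofNat_of_zero_le (show (0 : ℤ) ≤ q by omega)
      exact hN _ (PullbackMod.isQCoh_and_isFP_of_isFinLocFree _ hl).1 k d (by omega)
  choose m hm using h
  exact ⟨Finset.univ.sup m, hM, fun i q hq d hd =>
    hm i q hq d (by have := Finset.le_sup (f := m) (Finset.mem_univ i); omega)⟩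

theorem shortExact_push_of_van {T : ShortComplex P.Modules} (hT : T.ShortExact)
    (h : ∀ i : Fin B.n, Van r (B.S i) 1 0 ((B.L i).obj T.X₁)) :
    (T.map (Scheme.Modules.pushforward π)).ShortExact := by
  haveI := hT.mono_f
  haveI : PreservesFiniteLimits (Scheme.Modules.pushforward π) :=
    haveI : PreservesLimitsOfSize.{u, u} (Scheme.Modules.pushforward π) :=
      (Scheme.Modules.pullbackPushforwardAdjunction π).rightAdjoint_preservesLimits
    haveI : PreservesLimitsOfSize.{0, 0} (Scheme.Modules.pushforward π) := preservesLimitsOfSize_shrink _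
    inferInstance
  refine { exact := hT.exact.map_of_mono_of_preservesKernel (Scheme.Modules.pushforward π) hT.mono_f inferInstance
           mono_f := inferInstanceAs (Mono ((Scheme.Modules.pushforward π).map T.f))
           epi_g := ?_ }
  show Epi ((Scheme.Modules.pushforward π).map T.g)
  refine Preadditive.epi_of_isZero_cokernel _ (isZero_of_loc_base B.covers fun i => ?_)
  let c := B.chart i
  haveI : PreservesColimitsOfSize.{u, u} (Scheme.Modules.pullback c.ψ) :=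
    (Scheme.Modules.pullbackPushforwardAdjunction c.ψ).leftAdjoint_preservesColimits
  haveI : PreservesColimitsOfSize.{0, 0} (Scheme.Modules.pullback c.ψ) := preservesColimitsOfSize_shrink _
  haveI : (Scheme.Modules.pullback c.ψ).Additive :=
    (Scheme.Modules.pullbackPushforwardAdjunction c.ψ).left_adjoint_additive
  haveI : Epi ((Scheme.Modules.pushforward (KRR.pr r (B.S i))).map (c.loc.map T.g)) :=
    (RegLib.shortExact_push (c.shortExact_loc hT) (h i)).epi_g
  haveI : Epi ((Scheme.Modules.pullback c.ψ).map ((Scheme.Modules.pushforward π).map T.g)) := by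
    have e : (Scheme.Modules.pullback c.ψ).map ((Scheme.Modules.pushforward π).map T.g) =
        (c.β _).hom ≫ (Scheme.Modules.pushforward (KRR.pr r (B.S i))).map (c.loc.map T.g) ≫ (c.β _).inv := by
      rw [← Category.assoc, ← c.β_naturality T.g, Category.assoc, Iso.hom_inv_id, Category.comp_id]
    rw [e]
    infer_instance
  exact (isZero_cokernel_of_epi ((Scheme.Modules.pullback c.ψ).map ((Scheme.Modules.pushforward π).map T.g))).of_iso
    (PreservesCokernel.iso (Scheme.Modules.pullback c.ψ) _)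

theorem shortExact_push {T : ShortComplex P.Modules} (hT : T.ShortExact) (h : B.Rg 0 T.X₁) :
    (T.map (Scheme.Modules.pushforward π)).ShortExact :=
  B.shortExact_push_of_van hT fun i => h.2 i 1 le_rfl 0 (by norm_num)

theorem Rg.push {B : PB r π E O1} {M : P.Modules} (h : B.Rg 0 M) :
    FlatMod.IsFinLocFree ((Scheme.Modules.pushforward π).obj M) :=
  isFinLocFree_of_loc_base B.covers fun i => isFinLocFree_iso ((B.chart i).β M).symm
    (RegLib.IsAcyclic.push ⟨(B.chart i).isFinLocFree_loc h.1, fun q hq => h.2 i q hq 0 (by omega)⟩)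

/-- `π^*E`. -/
abbrev F (_B : PB r π E O1) : P.Modules := (Scheme.Modules.pullback π).obj E

instance : ModSite.HasSheafHom (O := P.sheaf) B.F := Groth.Agent.ModTensor.hasSheafHom (O := P.sheaf) _

theorem exists_seq : ∃ S : ShortComplex P.Modules, S.ShortExact ∧ S.X₁ = Coh.structureModule P ∧
    S.X₂ = tmod O1 (LocFreeHomLib.dualE B.F) ∧ FlatMod.IsFinLocFree S.X₂ ∧ FlatMod.IsFinLocFree S.X₃ :=
  haveI := B.epi
  exists_coev (PullbackMod.isFinLocFree_pullback π E B.flfE) B.line B.q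

/-- The coresolution step. -/
def seq : ShortComplex P.Modules := B.exists_seq.choose

theorem shortExact_seq : B.seq.ShortExact := B.exists_seq.choose_spec.1

theorem flf₁ : FlatMod.IsFinLocFree B.seq.X₁ :=
  B.exists_seq.choose_spec.2.1.symm ▸ BCLib.isFinLocFree_structureModule P

theorem flf₂ : FlatMod.IsFinLocFree B.seq.X₂ := B.exists_seq.choose_spec.2.2.2.1

theorem flf₃ : FlatMod.IsFinLocFree B.seq.X₃ := B.exists_seq.choose_spec.2.2.2.2

/-- The middle term on a chart. -/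
theorem nonempty_loc_A (i : Fin B.n) :
    Nonempty ((B.L i).obj B.seq.X₂ ≅ ∐ fun _ : Fin (r + 1) => O r (B.S i) 1) := by
  let c := B.chart i
  obtain ⟨f⟩ := c.free
  obtain ⟨f'⟩ := nonempty_pullback_free (KRR.pr r (B.S i)) (r + 1)
  obtain ⟨d⟩ := nonempty_pullback_dual c.θ (F := B.F)
    (c.locPull E ≪≫ (Scheme.Modules.pullback (KRR.pr r (B.S i))).mapIso f ≪≫ f')
  obtain ⟨t⟩ := c.twist
  obtain ⟨z⟩ := nonempty_zero r (B.S i)
  obtain ⟨s⟩ := nonempty_tensor_sigma (r := r) (S := B.S i) (a := 0)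
    (Limits.Sigma.mapIso (fun _ => z.symm) : FlatMod.freeMod (KRR.PY r (B.S i)) (r + 1) ≅ _) (O r (B.S i) 1)
  obtain ⟨z'⟩ := nonempty_T_zero r (B.S i)
  exact ⟨(B.L i).mapIso (eqToIso B.exists_seq.choose_spec.2.2.1) ≪≫ AmpleLib.pullTensor c.θ _ _ ≪≫
    AmpleLib.tIso t d ≪≫ AmpleLib.comm _ _ ≪≫ s ≪≫ Limits.Sigma.mapIso (fun _ => z'.app _)⟩

/-- The short exact sequence for a module. -/
theorem exists_tens {M : P.Modules} (hM : FlatMod.IsFinLocFree M) :
    ∃ T : ShortComplex P.Modules, T.ShortExact ∧ Nonempty (T.X₁ ≅ M) ∧ Nonempty (T.X₂ ≅ tmod M B.seq.X₂) ∧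
      Nonempty (T.X₃ ≅ tmod M B.seq.X₃) := by
  haveI : ((ModSite.tensorBi P.sheaf).flip.obj M).Additive := Groth.Agent.ModTensor.additive_tensorBi_flip P.sheaf M
  refine ⟨B.seq.map ((ModSite.tensorBi P.sheaf).flip.obj M),
    ModTensor.shortExact_map_of_isFlat_X₃ P.sheaf B.seq B.shortExact_seq
      ((isFlat_iff B.seq.X₃).1 (RegLib.isFlat_of_flf B.flf₃)) M, ⟨?_⟩, ⟨AmpleLib.comm _ _⟩, ⟨AmpleLib.comm _ _⟩⟩
  exact AmpleLib.tIso (eqToIso B.exists_seq.choose_spec.2.1) (Iso.refl M) ≪≫ AmpleLib.unitL M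

theorem van_mid {M : P.Modules} (i : Fin B.n) {q d : ℤ}
    (h : Van r (B.S i) q (d + 1) ((B.L i).obj M)) : Van r (B.S i) q d ((B.L i).obj (tmod M B.seq.X₂)) := by
  obtain ⟨a⟩ := B.nonempty_loc_A i
  obtain ⟨s⟩ := nonempty_tensor_sigma a ((B.L i).obj M)
  exact van_of_iso ((B.L i).mapIso (AmpleLib.comm M B.seq.X₂) ≪≫ AmpleLib.pullTensor (B.chart i).θ _ _ ≪≫ s).symm
    (van_sigma ((van_T (show (1 : ℤ) + d = d + 1 by ring) _).2 h) (r + 1))

theorem Rg.mid {B : PB r π E O1} {m : ℕ} {M : P.Modules} (h : B.Rg (m + 1) M) :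
    B.Rg m (tmod M B.seq.X₂) :=
  ⟨isFinLocFree_tensor h.1 B.flf₂, fun i q hq d hd => B.van_mid i (h.2 i q hq (d + 1) (by omega))⟩

theorem Rg.third {B : PB r π E O1} {m : ℕ} {M : P.Modules} (h : B.Rg (m + 1) M) :
    B.Rg m (tmod M B.seq.X₃) := by
  obtain ⟨T, hT, ⟨e₁⟩, ⟨e₂⟩, ⟨e₃⟩⟩ := B.exists_tens h.1
  refine ⟨isFinLocFree_tensor h.1 B.flf₃, fun i q hq d hd => ?_⟩
  exact van_of_iso ((B.L i).mapIso e₃) (van₃ ((B.chart i).shortExact_loc hT) q d
    (van_of_iso ((B.L i).mapIso e₂.symm) (h.mid.2 i q hq d hd))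
    (van_of_iso ((B.L i).mapIso e₁.symm) (h.2 i (q + 1) (by omega) d (by omega))))

/-- The values. -/
def v : ℕ → P.Modules → SGA6.Kvb X
  | 0, M => KRR.cl X ((Scheme.Modules.pushforward π).obj M)
  | m + 1, M => v m (tmod M B.seq.X₂) - v m (tmod M B.seq.X₃)

theorem v_iso : ∀ (m : ℕ) {M N : P.Modules}, (M ≅ N) → B.v m M = B.v m N
  | 0, _, _, e => KVb.cl_iso ((Scheme.Modules.pushforward π).mapIso e)
  | m + 1, _, _, e => by
    rw [v, v]
    exact congrArg₂ (· - ·) (v_iso m (AmpleLib.tIso e (Iso.refl B.seq.X₂)))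
      (v_iso m (AmpleLib.tIso e (Iso.refl B.seq.X₃)))

theorem v_add : ∀ (m : ℕ) {T : ShortComplex P.Modules}, T.ShortExact → B.Rg m T.X₁ → B.Rg m T.X₂ → B.Rg m T.X₃ →
    B.v m T.X₂ = B.v m T.X₁ + B.v m T.X₃
  | 0, T, hT, h₁, h₂, h₃ => KVb.cl_add (B.shortExact_push hT h₁) h₁.push h₂.push h₃.push
  | m + 1, T, hT, h₁, h₂, h₃ => by
    haveI : ∀ G : P.Modules, ((ModSite.tensorBi P.sheaf).flip.obj G).Additive :=
      fun G => Groth.Agent.ModTensor.additive_tensorBi_flip P.sheaf G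
    have hs : ∀ G : P.Modules, (T.map ((ModSite.tensorBi P.sheaf).flip.obj G)).ShortExact := fun G =>
      ModTensor.shortExact_map_of_isFlat_X₃ P.sheaf T hT ((isFlat_iff T.X₃).1 (RegLib.isFlat_of_flf h₃.1)) G
    have e₂ := v_add m (hs B.seq.X₂) h₁.mid h₂.mid h₃.mid
    have e₃ := v_add m (hs B.seq.X₃) h₁.third h₂.third h₃.third
    change B.v m (tmod T.X₂ B.seq.X₂) = B.v m (tmod T.X₁ B.seq.X₂) + B.v m (tmod T.X₃ B.seq.X₂) at e₂
    change B.v m (tmod T.X₂ B.seq.X₃) = B.v m (tmod T.X₁ B.seq.X₃) + B.v m (tmod T.X₃ B.seq.X₃) at e₃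
    rw [v, v, v, e₂, e₃]
    abel

theorem v_succ {m : ℕ} {M : P.Modules} (h : B.Rg m M) : B.v (m + 1) M = B.v m M := by
  have h' := h.mono (Nat.le_succ m)
  obtain ⟨T, hT, ⟨e₁⟩, ⟨e₂⟩, ⟨e₃⟩⟩ := B.exists_tens h.1
  have e := B.v_add m hT (h.iso e₁.symm) (h'.mid.iso e₂.symm) (h'.third.iso e₃.symm)
  rw [B.v_iso m e₁, B.v_iso m e₂, B.v_iso m e₃] at e
  rw [v, e, add_sub_cancel_right]

theorem v_eq_of_le {m m' : ℕ} {M : P.Modules} (h : B.Rg m M) (hm : m ≤ m') : B.v m' M = B.v m M := by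
  induction m', hm using Nat.le_induction with
  | base => rfl
  | succ k hk ih => rw [B.v_succ (h.mono hk), ih]

/-- Where all non-negative twists are acyclic the value is the direct image. -/
theorem v_eq_push : ∀ (m : ℕ) {M : P.Modules}, B.Rg m M →
    (∀ (i : Fin B.n) (q : ℤ), 1 ≤ q → ∀ d : ℤ, 0 ≤ d → Van r (B.S i) q d ((B.L i).obj M)) →
      B.v m M = KRR.cl X ((Scheme.Modules.pushforward π).obj M)
  | 0, _, _, _ => rfl
  | m + 1, M, h, hv => by
    obtain ⟨T, hT, ⟨e₁⟩, ⟨e₂⟩, ⟨e₃⟩⟩ := B.exists_tens h.1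
    have hA : ∀ (i : Fin B.n) (q : ℤ), 1 ≤ q → ∀ d : ℤ, 0 ≤ d →
        Van r (B.S i) q d ((B.L i).obj (tmod M B.seq.X₂)) := fun i q hq d hd =>
      B.van_mid i (hv i q hq (d + 1) (by omega))
    have hC : ∀ (i : Fin B.n) (q : ℤ), 1 ≤ q → ∀ d : ℤ, 0 ≤ d →
        Van r (B.S i) q d ((B.L i).obj (tmod M B.seq.X₃)) := fun i q hq d hd =>
      van_of_iso ((B.L i).mapIso e₃) (van₃ ((B.chart i).shortExact_loc hT) q d
        (van_of_iso ((B.L i).mapIso e₂.symm) (hA i q hq d hd))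
        (van_of_iso ((B.L i).mapIso e₁.symm) (hv i (q + 1) (by omega) d hd)))
    rw [v, v_eq_push m h.mid hA, v_eq_push m h.third hC]
    have hac : ∀ {N : P.Modules}, FlatMod.IsFinLocFree N →
        (∀ (i : Fin B.n) (q : ℤ), 1 ≤ q → ∀ d : ℤ, 0 ≤ d → Van r (B.S i) q d ((B.L i).obj N)) →
        FlatMod.IsFinLocFree ((Scheme.Modules.pushforward π).obj N) := fun {N} hN hn =>
      isFinLocFree_of_loc_base B.covers fun i => isFinLocFree_iso ((B.chart i).β N).symm
        (RegLib.IsAcyclic.push ⟨(B.chart i).isFinLocFree_loc hN, fun q hq => hn i q hq 0 le_rfl⟩)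
    have hse : (T.map (Scheme.Modules.pushforward π)).ShortExact := by
      haveI := hT.mono_f
      exact B.shortExact_push_of_van hT fun i =>
        van_of_iso ((B.L i).mapIso e₁.symm) (hv i 1 le_rfl 0 le_rfl)
    have e := KVb.cl_add hse (hac (isFinLocFree_iso e₁.symm h.1) fun i q hq d hd =>
      van_of_iso ((B.L i).mapIso e₁.symm) (hv i q hq d hd))
      (hac (isFinLocFree_iso e₂.symm (isFinLocFree_tensor h.1 B.flf₂)) fun i q hq d hd =>
        van_of_iso ((B.L i).mapIso e₂.symm) (hA i q hq d hd))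
      (hac (isFinLocFree_iso e₃.symm (isFinLocFree_tensor h.1 B.flf₃)) fun i q hq d hd =>
        van_of_iso ((B.L i).mapIso e₃.symm) (hC i q hq d hd))
    change KRR.cl X ((Scheme.Modules.pushforward π).obj T.X₂) =
      KRR.cl X ((Scheme.Modules.pushforward π).obj T.X₁) + KRR.cl X ((Scheme.Modules.pushforward π).obj T.X₃) at e
    simp only [KVb.cl_iso ((Scheme.Modules.pushforward π).mapIso e₁),
      KVb.cl_iso ((Scheme.Modules.pushforward π).mapIso e₂), KVb.cl_iso ((Scheme.Modules.pushforward π).mapIso e₃)] at e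
    rw [e, add_sub_cancel_right]

theorem exists_psi : ∃ g : SGA6.Kvb P →+ SGA6.Kvb X, ∀ (m : ℕ) (M : P.Modules), B.Rg m M →
    g (KRR.cl P M) = B.v m M := by
  classical
  let f : P.Modules → SGA6.Kvb X := fun M => if h : FlatMod.IsFinLocFree M then B.v (B.exists_rg h).choose M else 0
  have hf : ∀ (m : ℕ) (M : P.Modules), B.Rg m M → f M = B.v m M := fun m M h => by
    have h' := (B.exists_rg h.1).choose_spec
    simp only [f, dif_pos h.1]
    rw [← B.v_eq_of_le h' (le_max_left _ m), B.v_eq_of_le h (le_max_right _ m)]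
  obtain ⟨g, hg⟩ := RegLib.exists_lift (P := KRR.vbP P) f fun {T} hT h₁ h₂ h₃ => by
    obtain ⟨a, ha⟩ := B.exists_rg h₁
    obtain ⟨b, hb⟩ := B.exists_rg h₂
    obtain ⟨c, hc⟩ := B.exists_rg h₃
    let m := max a (max b c)
    have ha' := ha.mono (m' := m) (by omega)
    have hb' := hb.mono (m' := m) (by omega)
    have hc' := hc.mono (m' := m) (by omega)
    rw [hf m _ ha', hf m _ hb', hf m _ hc']
    exact B.v_add m hT ha' hb' hc'
  exact ⟨g, fun m M h => (hg M h.1).trans (hf m M h)⟩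

end PB

end Groth.Agent.PBundleLib
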