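import Groth.Agent.PBundleLib.Bundle
import Groth.Agent.KVbLib.ClopenMod
import Groth.Agent.KVbLib.Model
import Groth.Agent.KVbLib.PullExt
import Groth.Agent.KRRLam.Special
import Groth.Agent.LamR.Basic

/-!
# The Grothendieck ring of a quasi-compact scheme is a special λ-ring
-/

set_option autoImplicit false
set_option linter.style.haveILetI false
set_option linter.unusedSectionVars false
set_option maxHeartbeats 1000000
set_option backward.isDefEq.respectTransparency false

universe u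

open CategoryTheory CategoryTheory.Limits AlgebraicGeometry LambdaRing
open Groth.Agent.DCohLib Groth.Agent.PullbackMod

attribute [local instance] HasDerivedCategory.standard

noncomputable section

namespace Groth.Agent.PBundleLib

open Groth.Agent.KVb (KR toKR)

/-- λ-homomorphisms on the Grothendieck ring are detected on classes. -/
theorem lam_of_cl {X : Scheme.{u}} {K : Type*} [CommRing K] [LambdaOps K] (f : KR X →+* K)
    (h : ∀ E, FlatMod.IsFinLocFree E → ∀ i, f (LambdaOps.lam i (toKR (KRR.cl X E))) =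
      LambdaOps.lam i (f (toKR (KRR.cl X E)))) (i : ℕ) (x : KR X) :
    f (LambdaOps.lam i x) = LambdaOps.lam i (f x) := by
  suffices hs : PowerSeries.map f (lamSeries x) = lamSeries (f x) by
    have := congrArg (PowerSeries.coeff i) hs
    rwa [PowerSeries.coeff_map, LamR.coeff_lamSeries, LamR.coeff_lamSeries] at this
  have hadd : ∀ a b : KR X, PowerSeries.map f (lamSeries a) = lamSeries (f a) →
      PowerSeries.map f (lamSeries b) = lamSeries (f b) →
      PowerSeries.map f (lamSeries (a + b)) = lamSeries (f (a + b)) := fun a b ha hb => by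
    rw [LamR.lamSeries_add, map_mul, ha, hb, ← LamR.lamSeries_add, map_add]
  have h0 : PowerSeries.map f (lamSeries (0 : KR X)) = lamSeries (f 0) := by
    rw [map_zero, LamR.lamSeries_zero, LamR.lamSeries_zero, map_one]
  induction x using KVb.induction with
  | h0 => exact h0
  | hcl E hE =>
    exact PowerSeries.ext fun k => by
      rw [PowerSeries.coeff_map, LamR.coeff_lamSeries, LamR.coeff_lamSeries]
      exact h E hE k
  | hneg x hx =>
    have hx' : PowerSeries.map f (lamSeries (toKR x)) = lamSeries (f (toKR x)) := hx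
    refine (LamR.isUnit_lamSeries (f (toKR x))).mul_right_cancel ?_
    show PowerSeries.map f (lamSeries (-toKR x)) * lamSeries (f (toKR x)) = lamSeries (f (-toKR x)) * _
    conv_lhs => rw [← hx']
    rw [← map_mul, ← LamR.lamSeries_add, neg_add_cancel, ← LamR.lamSeries_add, ← map_add, neg_add_cancel]
    exact h0
  | hadd a b ha hb => exact hadd a b ha hb

variable {X Y : Scheme.{u}}

theorem exists_pullKR (f : X ⟶ Y) : ∃ g : KR Y →+* KR X,
    (∀ E, FlatMod.IsFinLocFree E → g (toKR (KRR.cl Y E)) = toKR (KRR.cl X ((Scheme.Modules.pullback f).obj E))) ∧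
      ∀ (i : ℕ) x, g (LambdaOps.lam i x) = LambdaOps.lam i (g x) := by
  obtain ⟨s₀, hs₀⟩ := RegLib.exists_lift (P := KRR.vbP Y)
    (fun E => toKR (KRR.cl X ((Scheme.Modules.pullback f).obj E))) fun {S} hS h₁ h₂ h₃ => by
      rw [← map_add]
      exact congrArg toKR (KVb.cl_add (shortExact_pullback_of_isFlat (f := f) S hS (isFlat_of_isFinLocFree _ h₃))
        (isFinLocFree_pullback f _ h₁) (isFinLocFree_pullback f _ h₂) (isFinLocFree_pullback f _ h₃))
  have hmul : ∀ a b : SGA6.Kvb Y, s₀ (KVb.mulH a b) = s₀ a * s₀ b := by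
    have h : (AddMonoidHom.compHom s₀).comp (KVb.mulH (X := Y)) = (AddMonoidHom.mul.comp s₀).compl₂ s₀ :=
      KVb.hom_ext fun E hE => KVb.hom_ext fun F hF => by
        show s₀ (KVb.mulH (KRR.cl Y E) (KRR.cl Y F)) = s₀ (KRR.cl Y E) * s₀ (KRR.cl Y F)
        rw [KVb.mulH_cl hE hF, hs₀ _ (KVb.isFinLocFree_ten hE hF), hs₀ E hE, hs₀ F hF,
          KVb.mul_cl (isFinLocFree_pullback f E hE) (isFinLocFree_pullback f F hF)]
        exact congrArg toKR (KVb.cl_iso (((pullTensorBiIsoSch f).app E).app F))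
    exact fun a b => DFunLike.congr_fun (DFunLike.congr_fun h a) b
  let g : KR Y →+* KR X :=
    { toFun := fun x => s₀ x
      map_one' := (hs₀ _ KVb.isFinLocFree_one).trans
        ((congrArg toKR (KVb.cl_iso (AmpleLib.pullO f))).trans KVb.toKR_one)
      map_mul' := hmul
      map_zero' := map_zero s₀
      map_add' := map_add s₀ }
  have hg : ∀ E, FlatMod.IsFinLocFree E →
      g (toKR (KRR.cl Y E)) = toKR (KRR.cl X ((Scheme.Modules.pullback f).obj E)) := hs₀
  refine ⟨g, hg, lam_of_cl g fun E hE i => ?_⟩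
  obtain ⟨L, hL, hEL⟩ := KVb.hasExt i E hE
  haveI := (isQCoh_and_isFP_of_isFinLocFree E hE).1
  rw [KVb.lam_cl hE hEL, hg L hL, hg E hE, KVb.lam_cl (isFinLocFree_pullback f E hE) (KVb.isExtPow_pullback f hEL)]

variable (X) in
/-- Classes of bundles of rank at most one. -/
def thin : Set (KR X) :=
  {v | ∃ L : X.Modules, FlatMod.IsFinLocFree L ∧ (∀ x, fibreRank L x ≤ 1) ∧ toKR (KRR.cl X L) = v}

variable (X) in
/-- The ring they generate. -/
def small : Subring (KR X) := Subring.closure (thin X)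

theorem one_mem_thin : (1 : KR X) ∈ thin X :=
  ⟨Coh.structureModule X, KVb.isFinLocFree_one, fun x => ((KVb.isFinLocFreeOfRank_iff KVb.isFinLocFree_one 1).1
    (CurveLib.isFinLocFreeOfRank_one ParaFLib.isInvertible_structureModule) x).le, KVb.toKR_one⟩

theorem mul_mem_thin {a b : KR X} (ha : a ∈ thin X) (hb : b ∈ thin X) : a * b ∈ thin X := by
  obtain ⟨L, hL, hl, rfl⟩ := ha
  obtain ⟨M, hM, hm, rfl⟩ := hb
  refine ⟨KVb.ten L M, KVb.isFinLocFree_ten hL hM, fun x => ?_, (KVb.mul_cl hL hM).symm⟩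
  haveI := (isQCoh_and_isFP_of_isFinLocFree _ (KVb.isFinLocFree_ten hL hM)).1
  rw [fibreRank_eq_of_freeAt _ (KVb.freeAt_tensor (KVb.isFinLocFree_freeAt hL x) (KVb.isFinLocFree_freeAt hM x))]
  exact (Nat.mul_le_mul (hl x) (hm x)).trans le_rfl

theorem lam_thin {a : KR X} (ha : a ∈ thin X) {j : ℕ} (hj : 2 ≤ j) : LambdaOps.lam j a = 0 := by
  obtain ⟨L, hL, hl, rfl⟩ := ha
  obtain ⟨M, hM, hLM⟩ := KVb.hasExt j L hL
  rw [KVb.lam_cl hL hLM, KVb.cl_of_isZero (KVb.isZero_of_rank_zero hM fun x => ?_), map_zero]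
  rw [(KVb.extPow_flf hL hLM).2 x]
  exact Nat.choose_eq_zero_of_lt (by have := hl x; omega)

theorem map_small {g : KR Y →+* KR X} {f : X ⟶ Y}
    (hg : ∀ E, FlatMod.IsFinLocFree E → g (toKR (KRR.cl Y E)) = toKR (KRR.cl X ((Scheme.Modules.pullback f).obj E)))
    {a : KR Y} (ha : a ∈ small Y) : g a ∈ small X := by
  refine (Subring.closure_le (t := (small X).comap g)).2 ?_ ha
  rintro _ ⟨L, hL, hl, rfl⟩
  refine Subring.subset_closure ⟨_, isFinLocFree_pullback f L hL, fun x => ?_, (hg L hL).symm⟩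
  haveI := (isQCoh_and_isFP_of_isFinLocFree L hL).1
  rw [fibreRank_pullback]
  exact hl _

/-- Splitting maps: injective λ-maps given by inverse image. -/
def IsSplitMap (f : X ⟶ Y) (g : KR Y →+* KR X) : Prop :=
  Function.Injective g ∧ (∀ (i : ℕ) x, g (LambdaOps.lam i x) = LambdaOps.lam i (g x)) ∧
    ∀ E, FlatMod.IsFinLocFree E → g (toKR (KRR.cl Y E)) = toKR (KRR.cl X ((Scheme.Modules.pullback f).obj E))

theorem IsSplitMap.comp {Z : Scheme.{u}} {f : X ⟶ Y} {h : Y ⟶ Z} {g : KR Y →+* KR X} {g' : KR Z →+* KR Y}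
    (hg : IsSplitMap f g) (hg' : IsSplitMap h g') : IsSplitMap (f ≫ h) (g.comp g') :=
  ⟨hg.1.comp hg'.1, fun i x => by simp only [RingHom.comp_apply, hg'.2.1, hg.2.1], fun E hE => by
    rw [RingHom.comp_apply, hg'.2.2 E hE, hg.2.2 _ (isFinLocFree_pullback h E hE)]
    exact congrArg toKR (KVb.cl_iso ((Scheme.Modules.pullbackComp f h).app E))⟩

theorem PB.compactSpace {r : ℕ} {π : X ⟶ Y} [CompactSpace Y] {E : Y.Modules} {O1 : X.Modules} (B : PB r π E O1) :
    CompactSpace X := by
  refine ⟨?_⟩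
  have e : (Set.univ : Set X) = ⋃ i : Fin B.n, Set.range (B.chart i).θ :=
    (Set.eq_univ_of_forall fun y => by
      obtain ⟨i, hi⟩ := B.covers (π y)
      have : y ∈ ((B.chart i).θ.opensRange : Set X) := by
        rw [(B.chart i).range_θ, Scheme.Hom.coe_opensRange]; exact hi
      rw [Scheme.Hom.coe_opensRange] at this
      exact Set.mem_iUnion.2 ⟨i, this⟩).symm
  rw [e]
  refine isCompact_iUnion fun i => ?_
  haveI : IsProper (KRR.pr r (B.S i)) := BCLib.isProper_toBase r _
  haveI : CompactSpace ↥(KRR.PY r (B.S i)) := QuasiCompact.compactSpace_of_compactSpace (KRR.pr r (B.S i))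
  exact isCompact_range (B.chart i).θ.continuous

theorem exists_split_rank : ∀ (m : ℕ) (X : Scheme.{u}) [CompactSpace X] (E : X.Modules),
    FlatMod.IsFinLocFreeOfRank m E →
    ∃ (X' : Scheme.{u}) (_ : CompactSpace X') (f : X' ⟶ X) (g : KR X →+* KR X'),
      IsSplitMap f g ∧ g (toKR (KRR.cl X E)) ∈ small X' := by
  intro m
  induction m with
  | zero =>
    intro X _ E hE
    refine ⟨X, inferInstance, 𝟙 X, RingHom.id _, ⟨Function.injective_id, fun _ _ => rfl, fun F _ =>
      congrArg toKR (KVb.cl_iso ((Scheme.Modules.pullbackId X).app F).symm)⟩, ?_⟩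
    have hf := KVb.isFinLocFree_of_rank hE
    rw [KVb.cl_of_isZero (KVb.isZero_of_rank_zero hf ((KVb.isFinLocFreeOfRank_iff hf 0).1 hE)), map_zero, map_zero]
    exact zero_mem _
  | succ r ih =>
    intro X _ E hE
    have hEf := KVb.isFinLocFree_of_rank hE
    haveI hq : Coh.IsQCoh E := (isQCoh_and_isFP_of_isFinLocFree E hEf).1
    obtain ⟨P, p, O1, φ, ⟨D⟩⟩ := ProjBundleLib.exists_bundle hq
    have hPB := isProjBundle_of_pdata D
    obtain ⟨Oi, -, ⟨h⟩⟩ := AmpleEmb.exists_isInverseOf (isInvertible_of_rank hPB.invertible)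
    have hOi := isFinLocFree_of_inverse hPB.invertible h
    obtain ⟨B, -⟩ := exists_pb hPB hE h hOi
    haveI := B.compactSpace
    obtain ⟨g₁, hg₁, hl₁⟩ := exists_pullKR p
    have hpow : ∀ i : ℕ, FlatMod.IsFinLocFree (CohB1.tensorPow Oi i) := fun i => by
      induction i with
      | zero => exact KVb.isFinLocFree_one
      | succ i ih => exact isFinLocFree_tensor ih hOi
    let G : Fin (r + 1) → (SGA6.Kvb X →+ SGA6.Kvb P) := fun i =>
      (KVb.tenHom (CohB1.tensorPow Oi (i : ℕ))).comp (g₁.toAddMonoidHom : KR X →+ KR P)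
    have hG := bijective_kvb hPB hE h G fun i N hN => by
      show KVb.tenHom _ (g₁ (toKR (KRR.cl X N))) = _
      rw [hg₁ N hN]
      exact (KVb.tenHom_cl (isFinLocFree_pullback p N hN) (hpow i)).trans (KVb.cl_iso (AmpleLib.comm _ _))
    have hinj : Function.Injective g₁ := by
      refine (injective_iff_map_eq_zero g₁).2 fun a ha => ?_
      have : (Pi.single 0 a : Fin (r + 1) → SGA6.Kvb X) = 0 := hG.1 (by
        show ∑ i, G i (Pi.single (M := fun _ => SGA6.Kvb X) 0 a i) = ∑ i, G i 0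
        rw [Finset.sum_eq_single 0 (fun i _ hi => by rw [Pi.single_eq_of_ne hi, map_zero])
          (fun h => absurd (Finset.mem_univ _) h), Pi.single_eq_same]
        simp only [map_zero, Finset.sum_const_zero]
        show KVb.tenHom _ (g₁ a) = 0
        rw [ha]
        exact map_zero _)
      simpa using congrFun this 0
    obtain ⟨F, hF, hEF⟩ : ∃ F : P.Modules, FlatMod.IsFinLocFreeOfRank r F ∧
        KRR.cl P ((Scheme.Modules.pullback p).obj E) = KRR.cl P F + KRR.cl P O1 := by
      have hE' := isFinLocFree_pullback p E hEf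
      have hOf := KVb.isFinLocFree_of_rank hPB.invertible
      let q := univQ φ
      haveI : Epi q := hPB.epi
      let S := ShortComplex.mk (kernel.ι q) q (kernel.condition q)
      haveI : Epi S.g := hPB.epi
      haveI : Mono S.f := inferInstanceAs (Mono (kernel.ι q))
      have hS : S.ShortExact := { exact := ShortComplex.exact_of_f_is_kernel _ (kernelIsKernel q) }
      have hF : FlatMod.IsFinLocFree S.X₁ := isFinLocFree_of_shortExact hS hE' hOf
      haveI := (isQCoh_and_isFP_of_isFinLocFree _ hE').1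
      haveI := (isQCoh_and_isFP_of_isFinLocFree _ hOf).1
      refine ⟨S.X₁, (KVb.isFinLocFreeOfRank_iff hF r).2 fun x => ?_, KVb.cl_add hS hF hE' hOf⟩
      have h := fibreRank_eq_of_freeAt _
        (KVb.freeAt_mid hS (KVb.isFinLocFree_freeAt hF x) (KVb.isFinLocFree_freeAt hOf x))
      change fibreRank ((Scheme.Modules.pullback p).obj E) x = _ at h
      change _ = _ + fibreRank O1 x at h
      rw [fibreRank_pullback, (KVb.isFinLocFreeOfRank_iff hEf _).1 hE,
        (KVb.isFinLocFreeOfRank_iff hOf 1).1 hPB.invertible] at h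
      omega
    obtain ⟨X', hc, f, g, hs, hmem⟩ := ih P F hF
    refine ⟨X', hc, f ≫ p, g.comp g₁, hs.comp ⟨hinj, hl₁, hg₁⟩, ?_⟩
    rw [RingHom.comp_apply, hg₁ E hEf, hEF, map_add, map_add]
    refine add_mem hmem (map_small hs.2.2 (Subring.subset_closure ⟨O1, KVb.isFinLocFree_of_rank hPB.invertible,
      fun x => ((KVb.isFinLocFreeOfRank_iff (KVb.isFinLocFree_of_rank hPB.invertible) 1).1 hPB.invertible x).le, rfl⟩))

theorem exists_split_flf (X : Scheme.{u}) [CompactSpace X] {E : X.Modules} (hE : FlatMod.IsFinLocFree E) :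
    ∃ (X' : Scheme.{u}) (_ : CompactSpace X') (f : X' ⟶ X) (g : KR X →+* KR X'),
      IsSplitMap f g ∧ g (toKR (KRR.cl X E)) ∈ small X' := by
  obtain ⟨N, E', Z, hE', hZ, hcl⟩ := KVb.exists_const_rank hE
  obtain ⟨X', hc, f, g, hs, hmem⟩ := exists_split_rank N X E' hE'
  refine ⟨X', hc, f, g, hs, ?_⟩
  rw [show toKR (KRR.cl X E) = toKR (KRR.cl X E') - ∑ k, toKR (KRR.cl X (Z k)) by
    rw [hcl, map_add, map_sum]; exact (add_sub_cancel_right _ _).symm, map_sub, map_sum]
  exact sub_mem hmem (sum_mem fun k _ => map_small hs.2.2 (Subring.subset_closure ⟨Z k, (hZ k).1, (hZ k).2, rfl⟩))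

theorem exists_sub_cl {X : Scheme.{u}} (x : KR X) : ∃ E F : X.Modules, FlatMod.IsFinLocFree E ∧
    FlatMod.IsFinLocFree F ∧ x = toKR (KRR.cl X E) - toKR (KRR.cl X F) := by
  induction x using KVb.induction with
  | h0 => exact ⟨_, _, KVb.isFinLocFree_one, KVb.isFinLocFree_one, (sub_self (1 : KR X)).symm⟩
  | hcl E hE =>
    exact ⟨E ⊞ Coh.structureModule X, _, isFinLocFree_biprod hE KVb.isFinLocFree_one, KVb.isFinLocFree_one, by
      rw [KVb.cl_biprod hE KVb.isFinLocFree_one, map_add]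
      exact (add_sub_cancel_right _ _).symm⟩
  | hneg x h =>
    obtain ⟨E, F, hE, hF, h⟩ := h
    exact ⟨F, E, hF, hE, by
      show -toKR x = _
      rw [show toKR x = _ from h]; exact neg_sub _ _⟩
  | hadd x y hx hy =>
    obtain ⟨E, F, hE, hF, hx⟩ := hx
    obtain ⟨E', F', hE', hF', hy⟩ := hy
    exact ⟨E ⊞ E', F ⊞ F', isFinLocFree_biprod hE hE', isFinLocFree_biprod hF hF', by
      show toKR x + toKR y = _
      rw [show toKR x = _ from hx, show toKR y = _ from hy, KVb.cl_biprod hE hE', KVb.cl_biprod hF hF', map_add,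
        map_add]
      exact sub_add_sub_comm _ _ _ _⟩

theorem exists_split_list : ∀ (l : ℕ) (X : Scheme.{u}) [CompactSpace X] (x : Fin l → KR X),
    ∃ (X' : Scheme.{u}) (_ : CompactSpace X') (f : X' ⟶ X) (g : KR X →+* KR X'),
      IsSplitMap f g ∧ ∀ k, g (x k) ∈ small X' := by
  intro l
  induction l with
  | zero =>
    intro X _ x
    exact ⟨X, inferInstance, 𝟙 X, RingHom.id _, ⟨Function.injective_id, fun _ _ => rfl, fun F _ =>
      congrArg toKR (KVb.cl_iso ((Scheme.Modules.pullbackId X).app F).symm)⟩, fun k => k.elim0⟩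
  | succ l ih =>
    intro X _ x
    obtain ⟨E, F, hE, hF, hx⟩ := exists_sub_cl (x 0)
    obtain ⟨X₁, hc₁, f₁, g₁, hs₁, hm₁⟩ := exists_split_flf X hE
    haveI := hc₁
    obtain ⟨X₂, hc₂, f₂, g₂, hs₂, hm₂⟩ := exists_split_flf X₁ (isFinLocFree_pullback f₁ F hF)
    haveI := hc₂
    obtain ⟨X₃, hc₃, f₃, g₃, hs₃, hm₃⟩ := ih X₂ fun k => g₂ (g₁ (x k.succ))
    refine ⟨X₃, hc₃, _, _, hs₃.comp (hs₂.comp hs₁), Fin.cases ?_ hm₃⟩
    show g₃ (g₂ (g₁ (x 0))) ∈ _
    rw [hx, map_sub, hs₁.2.2 F hF, map_sub, map_sub]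
    exact sub_mem (map_small hs₃.2.2 (map_small hs₂.2.2 hm₁)) (map_small hs₃.2.2 hm₂)

attribute [local instance] KRRLam.lamM in
/-- The Grothendieck ring of a quasi-compact scheme is special. -/
theorem isSpecial_KR (X : Scheme.{u}) [CompactSpace X] : IsSpecial (KR X) := by
  have hthin : ∀ (X' : Scheme.{u}) (d : thin X' →₀ ℕ),
      MvPolynomial.aeval (R := ℤ) (fun v : thin X' => (v : KR X')) (MvPolynomial.monomial d (1 : ℤ)) ∈ thin X' := by
    intro X' d
    rw [MvPolynomial.aeval_monomial, map_one, one_mul]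
    refine Finset.prod_induction _ (· ∈ thin X') (fun a b => mul_mem_thin) one_mem_thin fun v _ => ?_
    show (v : KR X') ^ d v ∈ _
    induction d v with
    | zero => rw [pow_zero]; exact one_mem_thin
    | succ n ih => rw [pow_succ]; exact mul_mem_thin ih v.2
  have hlam : ∀ (X' : Scheme.{u}) (n : ℕ) (p : MvPolynomial (thin X') ℤ),
      MvPolynomial.aeval (R := ℤ) (fun v : thin X' => (v : KR X')) (LambdaOps.lam n p) =
        LambdaOps.lam n (MvPolynomial.aeval (R := ℤ) (fun v : thin X' => (v : KR X')) p) := fun X' n p =>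
    KRRLam.aeval_lam _ (fun d j hj => lam_thin (hthin X' d) hj) n p
  have hrange : ∀ (X' : Scheme.{u}) {a : KR X'}, a ∈ small X' →
      ∃ p : MvPolynomial (thin X') ℤ, MvPolynomial.aeval (R := ℤ) (fun v : thin X' => (v : KR X')) p = a :=
    fun X' a ha => (Subring.closure_le (t := (MvPolynomial.aeval (R := ℤ)
      fun v : thin X' => (v : KR X')).toRingHom.range)).2
      (fun v hv => ⟨MvPolynomial.X ⟨v, hv⟩, MvPolynomial.aeval_X _ _⟩) ha
  refine ⟨fun n hn => lam_thin one_mem_thin hn, fun n Q hQ x y => ?_, fun i j Q hQ x => ?_⟩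
  · obtain ⟨X', _, f, g, ⟨hinj, hgl, -⟩, hm⟩ := exists_split_list 2 X ![x, y]
    obtain ⟨mx, hmx⟩ := hrange X' (hm 0)
    obtain ⟨my, hmy⟩ := hrange X' (hm 1)
    replace hmx : _ = g x := hmx
    replace hmy : _ = g y := hmy
    apply hinj
    rw [hgl, map_mul, ← hmx, ← hmy, ← map_mul, ← hlam, (KRRLam.isSpecial_M _).lam_mul n Q hQ, LamR.ringHom_aeval]
    show (MvPolynomial.aeval (R := ℤ) fun v : thin X' => (v : KR X')).toRingHom _ = _
    rw [LamR.ringHom_aeval]
    refine LamR.aeval_congr_int _ _ (fun k => ?_) _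
    rcases k with k | k
    · exact (hlam X' _ _).trans (by rw [hmx]; exact (hgl _ _).symm)
    · exact (hlam X' _ _).trans (by rw [hmy]; exact (hgl _ _).symm)
  · obtain ⟨X', _, f, g, ⟨hinj, hgl, -⟩, hm⟩ := exists_split_list 1 X ![x]
    obtain ⟨mx, hmx⟩ := hrange X' (hm 0)
    replace hmx : _ = g x := hmx
    apply hinj
    rw [hgl, hgl, ← hmx, ← hlam, ← hlam, (KRRLam.isSpecial_M _).lam_lam i j Q hQ, LamR.ringHom_aeval]
    show (MvPolynomial.aeval (R := ℤ) fun v : thin X' => (v : KR X')).toRingHom _ = _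
    rw [LamR.ringHom_aeval]
    exact LamR.aeval_congr_int _ _ (fun k => (hlam X' _ _).trans (by rw [hmx]; exact (hgl _ _).symm)) _

end Groth.Agent.PBundleLib
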